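import Cfsg.Agent.H51.TwMax.Cert
import Cfsg.Agent.H51.SubMax.Basic

/-!
The setting of a twisted group with its rational points: decompositions with rational
representatives and products along orbits of root elements.
-/

set_option autoImplicit false

namespace Cfsg.Agent.H51.Tw

open Cfsg.Lie Cfsg.Agent.H37 Cfsg.Agent.H37.RootSys Cfsg.Agent.H37.NormalForm

variable {D : ChevalleyDatum} {K : Type*} [Field K] {Q : Chev.Data D K}

variable (Q) in
/-- The product of fundamental representatives along a word. -/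
def nW (w : List ℕ) : ↥(D.group K) := (w.map fun i => nG Q.K K i).prod

/-- A twisted group with tables. -/
structure Setup (Q : Chev.Data D K) where
  E : Twist.Endo Q
  φ : K →+* K
  T : Dat
  good : T.Good D
  sup : Chev.Sup Q.X.C D Q.X.n
  cf_eq : ∀ r, r < D.nroots → ∀ i, i < D.rank → Q.K.cf r i = T.cf r i
  rho_eq : ∀ r, E.s.T.rh r = T.rho r
  f_eq : ∀ r, r < D.nroots → ∀ t, E.f r t = (T.sg r : K) * φ t
  φ_pow : ∀ t, (⇑φ)^[T.m] t = t
  gen : ∀ w, E.s.tau w = w →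
    w ∈ Subgroup.closure (Weyl.wOf Q.X.M '' {x | x ∈ T.ws})
  word_mem : ∀ wd ∈ T.ws, nW Q wd ∈ fixedPts E.σ

theorem img_wOf {wd : List ℕ} (hw : ∀ a ∈ wd, a < D.rank) {r : ℕ} (hr : r < D.nroots) :
    img Q (Weyl.wOf Q.X.M wd) r = Dat.act D wd r := by
  rw [img_of_lt Q _ hr]
  induction wd with
  | nil => simp [Weyl.wOf_nil, Dat.act]
  | cons a wd ih =>
      rw [Weyl.wOf_cons, map_mul, Equiv.Perm.mul_apply,
        Q.X.good.hom_gen_val (Q.rank_eq ▸ hw a (by simp)),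
        (Q.X.good.sigma_spec (Q.rank_eq ▸ hw a (by simp)) (Fin.isLt _)).2.1,
        ih fun b hb => hw b (by simp [hb])]
      rfl

theorem act_lt (Q : Chev.Data D K) {wd : List ℕ} (hw : ∀ a ∈ wd, a < D.rank) {r : ℕ}
    (hr : r < D.nroots) : Dat.act D wd r < D.nroots := by
  rw [← img_wOf (Q := Q) hw hr]; exact img_lt Q _ hr

theorem nW_append (a b : List ℕ) : nW Q (a ++ b) = nW Q a * nW Q b := by simp [nW]

theorem nW_rep {wd : List ℕ} (hw : ∀ a ∈ wd, a < D.rank) :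
    ∃ k ∈ Q.sys.H, nW Q wd = k * Q.sys.rep (Weyl.wOf Q.X.M wd) :=
  Twist.rep_word Q wd fun a ha => Q.rank_eq ▸ hw a ha

theorem nW_fix (φ : K →+* K) (wd : List ℕ) : nW Q wd ∈ Sub.fixG Q φ :=
  Subgroup.list_prod_mem _ fun g hg => by
    obtain ⟨i, -, rfl⟩ := List.mem_map.1 hg
    exact Sub.nG_mem_fixG Q φ i

/-- Conjugation by a product of representatives is linear on parameters, up to a sign. -/
theorem nW_conj : ∀ {wd : List ℕ}, (∀ a ∈ wd, a < D.rank) → ∀ {r : ℕ}, r < D.nroots →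
    ∃ e : ℤ, (e = 1 ∨ e = -1) ∧ ∀ t : K,
      nW Q wd * Q.sys.x r t * (nW Q wd)⁻¹ = Q.sys.x (Dat.act D wd r) ((e : K) * t)
  | [], _, r, _ => ⟨1, Or.inl rfl, fun t => by simp [nW, Dat.act]⟩
  | a :: wd, hw, r, hr => by
      have hw' : ∀ b ∈ wd, b < D.rank := fun b hb => hw b (by simp [hb])
      obtain ⟨e, he, h⟩ := nW_conj hw' hr
      have ha := hw a (by simp)
      have hlt := act_lt Q hw' hr
      refine ⟨Q.K.sg a (Dat.act D wd r) * e, ?_, fun t => ?_⟩
      · rcases he with rfl | rfl <;> rcases Q.K.sg_pm a (Dat.act D wd r) with h' | h' <;> simp [h']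
      · rw [show nW Q (a :: wd) = nG Q.K K a * nW Q wd by simp [nW],
          show nG Q.K K a * nW Q wd * Q.sys.x r t * (nG Q.K K a * nW Q wd)⁻¹ =
            nG Q.K K a * (nW Q wd * Q.sys.x r t * (nW Q wd)⁻¹) * (nG Q.K K a)⁻¹ by group, h t,
          show Dat.act D (a :: wd) r = D.reflectRoot a (Dat.act D wd r) from rfl,
          Q.K.w_reflect a ha _ hlt]
        refine Subtype.ext ?_
        show Q.K.nS K a * Q.K.xU K _ _ * (Q.K.nS K a)⁻¹ = Q.K.xU K _ _
        rw [Q.K.nS_conj_xU K ha hlt]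
        congr 1
        push_cast
        ring

/-- A subgroup with all root elements is everything. -/
theorem eq_top_of_x {L : Subgroup ↥(D.group K)}
    (h : ∀ r, r < D.nroots → ∀ t, Q.sys.x r t ∈ L) : L = ⊤ := by
  have hle : D.group K ≤ L.map (D.group K).subtype := (Subgroup.closure_le _).2 <| by
    rintro g ⟨r, t, hg⟩
    exact ⟨Q.sys.x r t, h r r.isLt t, Units.ext (by
      rw [hg, ← x_eq_xMat r.isLt t]
      exact Q.K.coe_xU K r t)⟩
  rw [eq_top_iff]
  intro g _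
  obtain ⟨g', hg', e⟩ := hle g.2
  rwa [← Subtype.ext (a1 := g') (a2 := g) e]

theorem ne_zero_x {r : ℕ} (hr : r < D.nroots) {t : K} (ht : t ≠ 0) : Q.sys.x r t ≠ 1 := fun e =>
  ht ((Q.K.xU_eq_one_iff K hr t).1 (congrArg Subtype.val e))

/-- The commutator formula in the group. -/
theorem comm_word {r s : ℕ} (hr : r < D.nroots) (hs : s < D.nroots) (h1 : s ≠ r)
    (h2 : s ≠ D.neg r) (t u : K) :
    Q.sys.x s u * Q.sys.x r t = Q.sys.x r t * Q.sys.x s u *
      ((D.commTerms r s).map fun c =>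
        Q.sys.x c.1 ((c.2.1 : K) * (-t) ^ c.2.2.1 * u ^ c.2.2.2)).prod := by
  refine Subtype.ext ?_
  rw [Subgroup.coe_mul, Subgroup.coe_mul, Subgroup.coe_mul, Subgroup.val_list_prod, List.map_map]
  show Q.K.xU K s u * Q.K.xU K r t = _
  rw [Q.K.xU_comm K hr hs h1 h2 t u, Chevalley.Cert.wU, ChevalleyDatum.commWord, List.map_map]
  rfl

/-- An element over `w` moves root elements along `w`. -/
theorem conj_x {w : Q.X.M.Group} {n : ↥(D.group K)} (hn : ∃ k ∈ Q.sys.H, n = k * Q.sys.rep w)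
    {r : ℕ} (hr : r < D.nroots) (t : K) :
    ∃ t', (t ≠ 0 → t' ≠ 0) ∧ n * Q.sys.x r t * n⁻¹ = Q.sys.x (img Q w r) t' := by
  obtain ⟨k, hk, rfl⟩ := hn
  obtain ⟨t1, e1⟩ := Q.sys.rep_conj w r hr t
  obtain ⟨t2, e2⟩ := Q.sys.h_conj k hk _ (Fin.isLt _) t1
  have e : k * Q.sys.rep w * Q.sys.x r t * (k * Q.sys.rep w)⁻¹ = Q.sys.x (img Q w r) t2 := by
    rw [img_of_lt Q w hr, ← e2, ← e1]; group
  refine ⟨t2, fun ht ht2 => ne_zero_x (Q := Q) hr ht ?_, e⟩
  refine (conj_eq_one_iff (a := k * Q.sys.rep w)).1 ?_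
  rw [e, ht2]; exact Q.sys.x_zero' (img_lt Q w hr)

theorem inv_over {w : Q.X.M.Group} {n : ↥(D.group K)} (hn : ∃ k ∈ Q.sys.H, n = k * Q.sys.rep w) :
    ∃ k ∈ Q.sys.H, n⁻¹ = k * Q.sys.rep w⁻¹ := by
  obtain ⟨k, hk, rfl⟩ := hn
  obtain ⟨l, hl, e⟩ := Q.sys.rep_inv w
  refine ⟨l * (Q.sys.rep w⁻¹ * k⁻¹ * (Q.sys.rep w⁻¹)⁻¹),
    mul_mem hl (Q.sys.rep_conj_H _ (inv_mem hk)), ?_⟩
  rw [mul_inv_rev, e]; group

theorem img_inv {w : Q.X.M.Group} {r : ℕ} (hr : r < D.nroots) :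
    img Q w⁻¹ (img Q w r) = r := by
  rw [img_of_lt Q _ (img_lt Q w hr)]
  simp [img_of_lt Q w hr, map_inv]

namespace Setup

variable (S : Setup Q)

/-- The twisted group. -/
abbrev G : Subgroup ↥(D.group K) := fixedPts S.E.σ

/-- The endomorphism on entries. -/
abbrev fr : ↥(D.group K) →* ↥(D.group K) := Sub.frob Q S.φ

/-- The points with entries in the subfield. -/
def rat : Subgroup ↥(D.group K) := S.G ⊓ Sub.fixG Q S.φ

theorem mem_rat {g : ↥(D.group K)} : g ∈ S.rat ↔ S.E.σ g = g ∧ S.fr g = g := Iff.rfl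

theorem rho_lt {r : ℕ} (hr : r < D.nroots) : S.T.rho r < D.nroots :=
  S.rho_eq r ▸ (S.E.s.root_spec hr).1

theorem iter_lt {r : ℕ} (hr : r < D.nroots) : ∀ j, S.T.rho^[j] r < D.nroots
  | 0 => hr
  | j + 1 => by rw [Function.iterate_succ_apply']; exact S.rho_lt (iter_lt hr j)

theorem rho_pos {r : ℕ} (hr : r < D.nroots) :
    D.nroots / 2 ≤ S.T.rho r ↔ D.nroots / 2 ≤ r := S.rho_eq r ▸ (S.E.s.root_spec hr).2.1

theorem σ_x {r : ℕ} (hr : r < D.nroots) (t : K) :
    S.E.σ (Q.sys.x r t) = Q.sys.x (S.T.rho r) ((S.T.sg r : K) * S.φ t) := by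
  rw [← S.f_eq r hr, ← S.rho_eq]
  exact S.E.σ_x r hr t

theorem σ_frob (g : ↥(D.group K)) : S.E.σ (S.fr g) = S.fr (S.E.σ g) := by
  have h : (S.E.σ.comp S.fr).eqLocus (S.fr.comp S.E.σ) = ⊤ := eq_top_of_x fun r hr t => by
    show S.E.σ (S.fr (Q.sys.x r t)) = S.fr (S.E.σ (Q.sys.x r t))
    rw [Sub.frob_x, S.σ_x hr, S.σ_x hr, Sub.frob_x, map_mul, map_intCast]
  exact (h ▸ Subgroup.mem_top g : g ∈ (S.E.σ.comp S.fr).eqLocus (S.fr.comp S.E.σ))

theorem fr_mem_G {g : ↥(D.group K)} (hg : g ∈ S.G) : S.fr g ∈ S.G := by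
  rw [mem_fixedPts] at hg ⊢
  rw [S.σ_frob, hg]

theorem nW_mem_rat {wd : List ℕ} (hw : wd ∈ S.T.ws) : nW Q wd ∈ S.rat :=
  ⟨S.word_mem wd hw, nW_fix S.φ wd⟩

theorem ws_lt {wd : List ℕ} (hw : wd ∈ S.T.ws) : ∀ a ∈ wd, a < D.rank := S.good.ws_mem.2.1 wd hw

/-- Fixed Weyl group elements have rational representatives. -/
theorem exists_rep {w : Q.X.M.Group} (hw : S.E.s.tau w = w) :
    ∃ n ∈ S.rat, ∃ k ∈ Q.sys.H, n = k * Q.sys.rep w := by
  have hc := S.gen w hw
  clear hw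
  induction hc using Subgroup.closure_induction with
  | mem x hx =>
      obtain ⟨wd, hwd, rfl⟩ := hx
      exact ⟨_, S.nW_mem_rat hwd, nW_rep (S.ws_lt hwd)⟩
  | one => exact ⟨1, one_mem _, 1, one_mem _, by rw [Q.sys.rep_one, mul_one]⟩
  | mul x y _ _ ihx ihy =>
      obtain ⟨n, hn, k, hk, rfl⟩ := ihx
      obtain ⟨n', hn', k', hk', rfl⟩ := ihy
      obtain ⟨l, hl, e⟩ := Q.sys.rep_mul x y
      refine ⟨_, mul_mem hn hn', k * (Q.sys.rep x * k' * (Q.sys.rep x)⁻¹) * l,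
        mul_mem (mul_mem hk (Q.sys.rep_conj_H _ hk')) hl, ?_⟩
      rw [mul_assoc _ l, ← e]; group
  | inv x _ ihx =>
      obtain ⟨n, hn, hk⟩ := ihx
      exact ⟨_, inv_mem hn, inv_over hk⟩

/-- Decomposition of a fixed element with a rational representative. -/
theorem decomp {g : ↥(D.group K)} (hg : g ∈ S.G) :
    ∃ u ∈ Q.sys.U, ∃ h ∈ Q.sys.H, ∃ w, ∃ n ∈ S.rat, ∃ v ∈ Q.sys.Uw w,
      S.E.s.tau w = w ∧ (∃ k ∈ Q.sys.H, n = k * Q.sys.rep w) ∧
      u ∈ S.G ∧ h ∈ S.G ∧ v ∈ S.G ∧ g = u * h * n * v := by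
  obtain ⟨u, hu, h, hh, w, v, hv, e⟩ := Q.sys.normalForm.exists_eq g
  change u ∈ Q.sys.U at hu
  change h ∈ Q.sys.H at hh
  change v ∈ Q.sys.Uw w at hv
  change g = u * h * Q.sys.rep w * v at e
  obtain ⟨l, hl, el⟩ := S.E.σ_rep w
  have he : S.E.σ u * (S.E.σ h * l) * Q.sys.rep (S.E.s.tau w) * S.E.σ v =
      u * h * Q.sys.rep w * v := by
    calc _ = S.E.σ u * S.E.σ h * (l * Q.sys.rep (S.E.s.tau w)) * S.E.σ v := by group
      _ = S.E.σ g := by rw [← el, e, map_mul, map_mul, map_mul]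
      _ = _ := by rw [← e]; exact hg
  obtain ⟨hw, h1, -, h3⟩ := Q.sys.normalForm.unique (S.E.σ_U hu) hu
    (mul_mem (S.E.σ_h hh) hl) hh (S.E.σ_Uw hv) hv he
  obtain ⟨n, hn, k, hk, en⟩ := S.exists_rep hw
  refine ⟨u, hu, h * k⁻¹, mul_mem hh (inv_mem hk), w, n, hn, v, hv, hw, ⟨k, hk, en⟩, h1, ?_, h3,
    by rw [e, en]; group⟩
  rw [show h * k⁻¹ = u⁻¹ * g * v⁻¹ * n⁻¹ by rw [e, en]; group]
  exact mul_mem (mul_mem (mul_mem (inv_mem (show u ∈ S.G from h1)) hg)
    (inv_mem (show v ∈ S.G from h3))) (inv_mem hn.1)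

/-- Uniqueness in a cell. -/
theorem cell_unique {w : Q.X.M.Group} {n u u' h h' v v' : ↥(D.group K)}
    (hn : ∃ k ∈ Q.sys.H, n = k * Q.sys.rep w) (hu : u ∈ Q.sys.U) (hu' : u' ∈ Q.sys.U)
    (hh : h ∈ Q.sys.H) (hh' : h' ∈ Q.sys.H) (hv : v ∈ Q.sys.Uw w) (hv' : v' ∈ Q.sys.Uw w)
    (e : u * h * n * v = u' * h' * n * v') : u = u' ∧ h = h' ∧ v = v' := by
  obtain ⟨k, hk, rfl⟩ := hn
  obtain ⟨-, h1, h2, h3⟩ := Q.sys.normalForm.unique hu hu' (mul_mem hh hk) (mul_mem hh' hk) hv hv'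
    (show u * (h * k) * Q.sys.rep w * v = u' * (h' * k) * Q.sys.rep w * v' by
      simp only [mul_assoc] at e ⊢; exact e)
  exact ⟨h1, mul_right_cancel h2, h3⟩

/-- The parameter of a conjugate of a root element. -/
def g : ℕ → ℕ → K → K
  | 0, _, a => a
  | j + 1, r, a => (S.T.sg (S.T.rho^[j] r) : K) * S.φ (g j r a)

theorem g_eq (r : ℕ) (a : K) : ∀ j, S.g j r a = (S.T.sgp j r : K) * (⇑S.φ)^[j] a
  | 0 => by simp [g, Dat.sgp]
  | j + 1 => by
      rw [g, g_eq r a j, Function.iterate_succ_apply', Dat.sgp, map_mul, map_intCast]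
      push_cast
      ring

theorem σ_iter_x {r : ℕ} (hr : r < D.nroots) (a : K) :
    ∀ j, (⇑S.E.σ)^[j] (Q.sys.x r a) = Q.sys.x (S.T.rho^[j] r) (S.g j r a)
  | 0 => rfl
  | j + 1 => by
      rw [Function.iterate_succ_apply', σ_iter_x hr a j, S.σ_x (S.iter_lt hr j),
        Function.iterate_succ_apply']
      rfl

/-- The product along the orbit of a root element. -/
def P (r : ℕ) (a : K) : ↥(D.group K) :=
  ((List.range (S.T.orbSize r)).map fun j => (⇑S.E.σ)^[j] (Q.sys.x r a)).prod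

/-- Parameters allowed at a fixed root. -/
def Ok (r : ℕ) (a : K) : Prop := S.T.rho r = r → S.φ a = a

theorem orbit_commute {r : ℕ} (hr : r < D.nroots) {i j : ℕ} (hi : i < S.T.orbSize r)
    (hj : j < S.T.orbSize r) (a b : K) :
    Commute ((⇑S.E.σ)^[i] (Q.sys.x r a)) ((⇑S.E.σ)^[j] (Q.sys.x r b)) := by
  rw [S.σ_iter_x hr, S.σ_iter_x hr]
  exact Twist.commute_xG Q (S.good.orb_comm r hr)
    (List.mem_map.2 ⟨i, List.mem_range.2 hi, rfl⟩) (List.mem_map.2 ⟨j, List.mem_range.2 hj, rfl⟩) _ _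

theorem iter_orbSize {r : ℕ} (hr : r < D.nroots) {a : K} (ha : S.Ok r a) :
    (⇑S.E.σ)^[S.T.orbSize r] (Q.sys.x r a) = Q.sys.x r a := by
  rw [S.σ_iter_x hr]
  by_cases h : S.T.rho r = r
  · simp [Dat.orbSize, h, g, S.good.sg_fix r hr h, ha h]
  · rw [Dat.orbSize, if_neg h, (S.good.period r hr).1, g_eq, (S.good.period r hr).2, S.φ_pow]
    simp

theorem prod_shift {G : Type*} [Monoid G] (f : ℕ → G) : ∀ o,
    ((List.range (o + 1)).map f).prod = f 0 * ((List.range o).map fun j => f (j + 1)).prod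
  | 0 => by simp
  | o + 1 => by
      rw [List.range_succ_eq_map, List.map_cons, List.prod_cons, List.map_map]
      rfl

theorem P_mem_G {r : ℕ} (hr : r < D.nroots) {a : K} (ha : S.Ok r a) : S.P r a ∈ S.G := by
  have h0 : 0 < S.T.orbSize r := by
    have := S.good.base.2.2.2.2.2
    unfold Dat.orbSize; split_ifs <;> omega
  rw [mem_fixedPts]
  set f := fun j => (⇑S.E.σ)^[j] (Q.sys.x r a) with hf
  set o := S.T.orbSize r with ho
  have hσ : S.E.σ (S.P r a) = ((List.range o).map fun j => f (j + 1)).prod := by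
    rw [P, map_list_prod, List.map_map]
    exact congrArg List.prod (List.map_congr_left fun j _ => by
      simp [hf, Function.iterate_succ_apply'])
  have hP : S.P r a = ((List.range o).map f).prod := rfl
  have hcomm : Commute (f 0) (S.P r a) := by
    rw [hP]
    refine Commute.list_prod_right _ _ fun y hy => ?_
    obtain ⟨j, hj, rfl⟩ := List.mem_map.1 hy
    exact S.orbit_commute hr h0 (List.mem_range.1 hj) a a
  refine mul_left_cancel (a := f 0) ?_
  rw [hσ, ← prod_shift f o, List.range_succ, List.map_append, List.prod_append, ← hP,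
    List.map_singleton, List.prod_singleton, show f o = f 0 from S.iter_orbSize hr ha]
  exact hcomm.eq.symm

theorem fr_iter (g : ↥(D.group K)) : ∀ j, S.fr ((⇑S.E.σ)^[j] g) = (⇑S.E.σ)^[j] (S.fr g)
  | 0 => rfl
  | j + 1 => by
      rw [Function.iterate_succ_apply', Function.iterate_succ_apply', ← S.σ_frob, fr_iter g j]

theorem fr_P (r : ℕ) (a : K) : S.fr (S.P r a) = S.P r (S.φ a) := by
  rw [P, map_list_prod, List.map_map, P]
  exact congrArg List.prod (List.map_congr_left fun j _ => by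
    simp [S.fr_iter, Sub.frob_x])

theorem P_mem_rat {r : ℕ} (hr : r < D.nroots) {a : K} (ha : S.φ a = a) : S.P r a ∈ S.rat :=
  ⟨S.P_mem_G hr fun _ => ha, show S.fr (S.P r a) = S.P r a by rw [S.fr_P, ha]⟩

theorem P_fixed_root {r : ℕ} (h : S.T.rho r = r) (a : K) : S.P r a = Q.sys.x r a := by
  simp [P, Dat.orbSize, h]

theorem prod_mul_comm {G : Type*} [Monoid G] (f f' : ℕ → G) : ∀ o,
    (∀ i < o, ∀ j < o, Commute (f' i) (f j)) →
    ((List.range o).map fun j => f j * f' j).prod =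
      ((List.range o).map f).prod * ((List.range o).map f').prod
  | 0, _ => by simp
  | o + 1, h => by
      simp only [List.range_succ, List.map_append, List.prod_append, List.map_singleton,
        List.prod_singleton]
      rw [prod_mul_comm f f' o fun i hi j hj => h i (by omega) j (by omega)]
      have hc : Commute ((List.range o).map f').prod (f o) := by
        refine Commute.list_prod_left _ _ fun y hy => ?_
        obtain ⟨j, hj, rfl⟩ := List.mem_map.1 hy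
        exact h j (by have := List.mem_range.1 hj; omega) o (by omega)
      simp only [mul_assoc]
      rw [← mul_assoc _ (f o), hc.eq, mul_assoc]

theorem P_add {r : ℕ} (hr : r < D.nroots) (a b : K) : S.P r (a + b) = S.P r a * S.P r b := by
  rw [P, P, P, ← prod_mul_comm _ _ _ fun i hi j hj => S.orbit_commute hr hi hj b a]
  refine congrArg List.prod (List.map_congr_left fun j _ => ?_)
  rw [Q.sys.x_add' r hr, iterate_map_mul]

theorem P_zero {r : ℕ} (hr : r < D.nroots) : S.P r 0 = 1 := by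
  have h := S.P_add hr 0 0
  rw [add_zero] at h
  exact left_eq_mul.1 h

theorem P_neg {r : ℕ} (hr : r < D.nroots) (a : K) : S.P r (-a) = (S.P r a)⁻¹ :=
  eq_inv_of_mul_eq_one_left (by rw [← S.P_add hr, neg_add_cancel, S.P_zero hr])

theorem word_tau {wd : List ℕ} (hw : wd ∈ S.T.ws) :
    S.E.s.tau (Weyl.wOf Q.X.M wd) = Weyl.wOf Q.X.M wd := by
  rw [S.E.s.tau_eq_iff]
  intro r
  rw [← img_of_lt Q _ (Fin.isLt _), ← img_of_lt Q _ r.isLt, Twist.Sigma.perm_val,
    img_wOf (S.ws_lt hw) ((S.E.s.root_spec r.isLt).1), img_wOf (S.ws_lt hw) r.isLt, S.rho_eq,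
    S.rho_eq, S.good.ws_rho wd hw r r.isLt]

/-- A rational representative of a word moves the products along orbits. -/
theorem nW_conj_P {wd : List ℕ} (hw : wd ∈ S.T.ws) {r : ℕ} (hr : r < D.nroots) :
    ∃ e : ℤ, (e = 1 ∨ e = -1) ∧ ∀ a : K,
      nW Q wd * S.P r a * (nW Q wd)⁻¹ = S.P (Dat.act D wd r) ((e : K) * a) := by
  obtain ⟨e, he, h⟩ := nW_conj (Q := Q) (S.ws_lt hw) hr
  refine ⟨e, he, fun a => ?_⟩
  have hiff : S.T.rho (Dat.act D wd r) = Dat.act D wd r ↔ S.T.rho r = r := by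
    rw [← S.good.ws_rho wd hw r hr]
    constructor
    · intro e
      have hlt := S.ws_lt hw
      rw [← img_wOf (Q := Q) hlt hr, ← img_wOf (Q := Q) hlt (S.rho_lt hr)] at e
      have := congrArg (img Q (Weyl.wOf Q.X.M wd)⁻¹) e
      rwa [img_inv (S.rho_lt hr), img_inv hr] at this
    · intro e
      rw [e]
  have ho : S.T.orbSize (Dat.act D wd r) = S.T.orbSize r := by
    unfold Dat.orbSize
    simp only [hiff]
  rw [← MulAut.conj_apply, P, map_list_prod, List.map_map, P, ho]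
  refine congrArg List.prod (List.map_congr_left fun j _ => ?_)
  have hσ : S.E.σ (nW Q wd) = nW Q wd := S.word_mem wd hw
  have hj : ∀ (j : ℕ) (y : ↥(D.group K)), nW Q wd * (⇑S.E.σ)^[j] y * (nW Q wd)⁻¹ =
      (⇑S.E.σ)^[j] (nW Q wd * y * (nW Q wd)⁻¹) := by
    intro j
    induction j with
    | zero => intro y; rfl
    | succ j ih =>
      intro y
      rw [Function.iterate_succ_apply', Function.iterate_succ_apply', ← ih]
      simp only [map_mul, map_inv, hσ]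
  rw [Function.comp_apply, MulAut.conj_apply, hj, h a]

end Setup

end Cfsg.Agent.H51.Tw
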