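import Cfsg.Agent.H37.Twist.Pieces

/-!
Table facts used for the maximality of the subfield points in a twisted group: the long root
parabolic, its fixed roots, and ascents along the orbits of positive roots.
-/

set_option autoImplicit false

namespace Cfsg.Agent.H51.Tw

open Cfsg.Lie

/-- Tables: root coefficients, the root map with its signs and order, the node of the highest
root, words of the fundamental fixed reflections. -/
structure Dat where
  cf : ℕ → ℕ → ℤ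
  rho : ℕ → ℕ
  sg : ℕ → ℤ
  m : ℕ
  i0 : ℕ
  ws : List (List ℕ)
  wL : List ℕ
  fuel : ℕ

namespace Dat

variable (D : ChevalleyDatum) (T : Dat)

/-- The action of a word of fundamental reflections. -/
def act (w : List ℕ) (r : ℕ) : ℕ := w.foldr D.reflectRoot r

/-- The highest root. -/
def top : ℕ := D.nroots - 1

/-- A positive root index. -/
abbrev Pos (r : ℕ) : Prop := r < D.nroots ∧ D.nroots / 2 ≤ r

/-- The roots of the radical of the parabolic of the highest root. -/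
abbrev InS (r : ℕ) : Prop := Pos D r ∧ T.cf r T.i0 ≠ 0

/-- The height. -/
def ht (r : ℕ) : ℤ := ((List.range D.rank).map (T.cf r)).sum

/-- The number of roots in an orbit. -/
def orbSize (r : ℕ) : ℕ := if T.rho r = r then 1 else T.m

/-- An orbit. -/
def orbit (r : ℕ) : List ℕ := (List.range (T.orbSize r)).map fun j => T.rho^[j] r

/-- The product of the signs along an orbit. -/
def sgp : ℕ → ℕ → ℤ
  | 0, _ => 1
  | j + 1, r => T.sg (T.rho^[j] r) * sgp j r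

/-- The positive roots with all conjugates from `k` on. -/
abbrev SB (k r : ℕ) : Prop := Pos D r ∧ ∀ j < T.m, k ≤ T.rho^[j] r

/-- Roots reached from the highest root by the fixed fundamental reflections. -/
def reach : ℕ → List ℕ
  | 0 => [top D]
  | f + 1 => ((reach f) ++ T.ws.flatMap fun w => (reach f).map (act D w)).dedup

/-- The flattened word of the longest element of the Levi subgroup. -/
def wordL : List ℕ := (T.wL.map fun j => T.ws.getD j []).flatten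

/-- The facts about the parabolic of the highest root. -/
structure Good : Prop where
  base : InS D T (top D) ∧ T.rho (top D) = top D ∧ T.rho (D.simple T.i0) = D.simple T.i0 ∧
    T.i0 < D.rank ∧ D.reflectRoot T.i0 (top D) ≠ top D ∧ 2 ≤ T.m
  rho_i0 : ∀ r < D.nroots, T.cf (T.rho r) T.i0 = T.cf r T.i0
  rho_lin : ∀ j < D.rank, ∃ l < D.rank, ∀ r < D.nroots, T.cf (T.rho r) j = T.cf r l
  sg_fix : ∀ r < D.nroots, T.rho r = r → T.sg r = 1
  period : ∀ r < D.nroots, T.rho^[T.m] r = r ∧ T.sgp T.m r = 1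
  orb_free : ∀ r < D.nroots, T.rho r ≠ r → ∀ j < T.m, 0 < j → T.rho^[j] r ≠ r
  orb_comm : ∀ r < D.nroots, H37.Twist.commB D (T.orbit r) = true
  top_max : ∀ r < D.nroots, T.ht D r ≤ T.ht D (top D)
  ht_pos : ∀ r < D.nroots, D.nroots / 2 ≤ r → 1 ≤ T.ht D r
  cart : 0 < D.cartan T.i0 (top D)
  dom : ∀ i < D.rank, i ≠ T.i0 → D.reflectRoot i (top D) = top D ∧
    ∀ r < D.nroots, InS D T r → InS D T (D.reflectRoot i r)
  desc : ∀ i < D.rank, i ≠ T.i0 → ∃ r < D.nroots, ∃ r' < D.nroots, InS D T r ∧ InS D T r' ∧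
    T.rho r = r ∧ T.rho r' = r' ∧ T.ht D r < T.ht D r' ∧
    ∀ m < D.rank, T.cf r m ≤ T.cf r' m ∧
      (T.cf r' m = T.cf r m ∨ ∃ j < T.m, T.rho^[j] (D.simple i) = D.simple m)
  diff : ∀ i < D.rank, i ≠ T.i0 → ∃ r < D.nroots, ∃ r' < D.nroots, InS D T r ∧ InS D T r' ∧
    ∀ m < D.rank, T.cf r' m = T.cf r m + if m = i then 1 else 0
  stab : ∀ r < D.nroots, (D.nroots / 2 ≤ r ∨ T.cf r T.i0 = 0) → r ≠ top D →
    r ≠ D.neg (top D) ∧ D.commTerms (top D) r = []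
  gamma : ∀ γ < D.nroots / 2, T.rho γ = γ → γ ≠ D.neg (top D) →
    D.commTerms (top D) γ = [] ∨ ∃ c ∈ D.commTerms (top D) γ, D.commTerms (top D) γ = [c] ∧
      (c.2.1 = 1 ∨ c.2.1 = -1) ∧ c.2.2.1 = 1 ∧ c.2.2.2 = 1 ∧ D.nroots / 2 ≤ c.1 ∧
      T.rho c.1 = c.1 ∧ c.1 ≠ γ ∧ γ ≠ D.neg c.1 ∧ D.commTerms c.1 γ = []
  reach_fix : ∀ r < D.nroots, D.nroots / 2 ≤ r → T.rho r = r → r ∈ reach D T T.fuel
  ws_mem : [T.i0] ∈ T.ws ∧ (∀ w ∈ T.ws, ∀ a ∈ w, a < D.rank) ∧ ∀ j ∈ T.wL, j < T.ws.length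
  ws_rho : ∀ w ∈ T.ws, ∀ r < D.nroots, act D w (T.rho r) = T.rho (act D w r)
  wL_flip : ∀ r < D.nroots, D.nroots / 2 ≤ r →
    (act D T.wordL r < D.nroots / 2 ↔ T.cf r T.i0 = 0)
  wL_perm : ∀ r < D.nroots, InS D T r → ∃ r0 < D.nroots, InS D T r0 ∧ act D T.wordL r0 = r

/-- The contributions to the coefficient at `t` of the commutators of the orbits of `b` and
`k`: the conjugate and the sign. -/
def contrib (k b t : ℕ) : List (ℕ × ℤ) :=
  (List.range (T.orbSize b)).flatMap fun i => (List.range (T.orbSize k)).flatMap fun j =>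
    ((D.commTerms (T.rho^[j] k) (T.rho^[i] b)).filter fun c => c.1 == t).map fun c =>
      (j, -c.2.1 * T.sgp i b * T.sgp j k)

/-- An ascent from the orbit of `k` to the orbit of `t` by the orbit of `b`. -/
structure Step (k b t : ℕ) : Prop where
  lt : k < t ∧ t < D.nroots ∧ Pos D b ∧ SB D T t t ∧ ∀ x ∈ T.orbit b, x ∉ T.orbit k ∧ D.commTerms x x = []
  into : ∀ x ∈ T.orbit b, ∀ s < D.nroots, SB D T k s → s ≠ x → ∀ c ∈ D.commTerms s x,
    SB D T t c.1 ∧ (c.1 = t → s ∈ T.orbit k ∧ c.2.2.1 = 1 ∧ c.2.2.2 = 1)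
  norm : ∀ x < D.nroots, SB D T k x ∨ x ∈ T.orbit b → ∀ s < D.nroots, SB D T t s → s ≠ x →
    ∀ c ∈ D.commTerms s x, SB D T t c.1 ∧ c.1 ≠ t
  coef : (∃ a ∈ contrib D T k b t, contrib D T k b t = [a] ∧ (a.2 = 1 ∨ a.2 = -1)) ∨
    (T.m = 3 ∧ ∃ a ∈ contrib D T k b t, ∃ a' ∈ contrib D T k b t,
      contrib D T k b t = [a, a'] ∧ a.2 = a'.2 ∧ (a.2 = 1 ∨ a.2 = -1) ∧ a.1 ≠ a'.1 ∧
        a.1 < 3 ∧ a'.1 < 3)

set_option synthInstance.maxSize 2000 in
set_option synthInstance.maxHeartbeats 400000 in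
instance (k b t : ℕ) : Decidable (Step D T k b t) :=
  decidable_of_iff
    ((k < t ∧ t < D.nroots ∧ Pos D b ∧ SB D T t t ∧ ∀ x ∈ T.orbit b, x ∉ T.orbit k ∧ D.commTerms x x = []) ∧
      (∀ x ∈ T.orbit b, ∀ s < D.nroots, SB D T k s → s ≠ x → ∀ c ∈ D.commTerms s x,
        SB D T t c.1 ∧ (c.1 = t → s ∈ T.orbit k ∧ c.2.2.1 = 1 ∧ c.2.2.2 = 1)) ∧
      (∀ x < D.nroots, SB D T k x ∨ x ∈ T.orbit b → ∀ s < D.nroots, SB D T t s → s ≠ x →
        ∀ c ∈ D.commTerms s x, SB D T t c.1 ∧ c.1 ≠ t) ∧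
      ((∃ a ∈ contrib D T k b t, contrib D T k b t = [a] ∧ (a.2 = 1 ∨ a.2 = -1)) ∨
        (T.m = 3 ∧ ∃ a ∈ contrib D T k b t, ∃ a' ∈ contrib D T k b t,
          contrib D T k b t = [a, a'] ∧ a.2 = a'.2 ∧ (a.2 = 1 ∨ a.2 = -1) ∧ a.1 ≠ a'.1 ∧
            a.1 < 3 ∧ a'.1 < 3)))
    ⟨fun ⟨a, b, c, d⟩ => ⟨a, b, c, d⟩, fun ⟨a, b, c, d⟩ => ⟨a, b, c, d⟩⟩

/-- Every moved orbit ascends, except one, above which all roots are fixed. -/
structure Climb (L : List (ℕ × ℕ × ℕ)) (term : ℕ) : Prop where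
  skip : ∀ k < D.nroots, SB D T k k ∨ ∀ r < D.nroots, SB D T k r → SB D T (k + 1) r
  climb : ∀ k < D.nroots, SB D T k k → T.rho k ≠ k →
    (∃ p ∈ L, p.1 = k ∧ Step D T k p.2.1 p.2.2) ∨
    (k = term ∧ ∀ r < D.nroots, SB D T (k + 1) r → T.rho r = r)

end Dat

end Cfsg.Agent.H51.Tw
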