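import Cfsg.Agent.H51.TwMax.Cert
import Cfsg.Agent.H37.Twist.D4Basic

/-!
Tables for `³D₄(q)`.
-/

set_option autoImplicit false
set_option maxRecDepth 100000
set_option synthInstance.maxSize 2000
set_option maxHeartbeats 1000000

namespace Cfsg.Agent.H51.Tw

open Cfsg.Lie Cfsg.Agent.H37

/-- The tables of `³D₄`. -/
def datD4 : Dat where
  cf := Chevalley.D4.tab.cf chevD4
  rho := Twist.D4.tables.rh
  sg := Sym.dataD4a.sg
  m := 3
  i0 := 1
  ws := [[0, 2, 3], [1]]
  wL := [0]
  fuel := 6

theorem goodD4 : datD4.Good chevD4 := by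
  constructor <;> decide +kernel

theorem climbD4 : datD4.Climb chevD4 [(12, 14, 15), (15, 12, 17)] 17 := by
  constructor <;> decide +kernel

end Cfsg.Agent.H51.Tw
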