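import Cfsg.Agent.H51.TwMax.Cert
import Cfsg.Agent.H37.Twist.E6Basic

/-!
Tables for `²E₆(q)`.
-/

set_option autoImplicit false
set_option maxRecDepth 100000
set_option synthInstance.maxSize 2000
set_option maxHeartbeats 1000000

namespace Cfsg.Agent.H51.Tw

open Cfsg.Lie Cfsg.Agent.H37

/-- The tables of `²E₆`. -/
def datE6 : Dat where
  cf := Chevalley.E6.tab.cf chevE6
  rho := Twist.E6.tables.rh
  sg := Sym.dataE6.sg
  m := 2
  i0 := 1
  ws := [[0, 5], [2, 4], [3], [1]]
  wL := [0, 1, 2, 0, 1, 2, 0, 1, 2]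
  fuel := 8

theorem goodE6 : datE6.Good chevE6 := by
  constructor <;> decide +kernel

theorem climbE6 : datE6.Climb chevE6 [(36, 37, 38), (37, 36, 38), (38, 39, 41), (40, 36, 41),
    (41, 37, 45), (45, 46, 52), (48, 36, 49), (49, 37, 52), (52, 39, 54), (54, 37, 55),
    (55, 36, 66)] 66 := by
  constructor <;> decide +kernel

end Cfsg.Agent.H51.Tw
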