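import Cfsg.Agent.H51.TwMax.Parabolic

/-!
A unipotent element which is not rational gives one along the top orbit of moved roots.
-/

set_option autoImplicit false

namespace Cfsg.Agent.H51.Tw

open Cfsg.Lie Cfsg.Agent.H37 Cfsg.Agent.H37.RootSys Cfsg.Agent.H37.NormalForm

variable {D : ChevalleyDatum} {K : Type*} [Field K] {Q : Chev.Data D K}

namespace Setup

variable (S : Setup Q)

/-- The roots whose first `n` conjugates are at least `k`. -/
def UT (k n : ℕ) : Finset ℕ := Q.sys.P.filter fun r => ∀ j < n, k ≤ S.T.rho^[j] r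

/-- The roots whose conjugate number `j` is at least `k`. -/
def TT (k j : ℕ) : Finset ℕ := Q.sys.P.filter fun r => k ≤ S.T.rho^[j] r

theorem mem_P_iff {r : ℕ} : r ∈ Q.sys.P ↔ Dat.Pos D r := by rw [Q.sys.P_eq, mem_posSet]

theorem mem_UT {k n r : ℕ} :
    r ∈ S.UT k n ↔ Dat.Pos D r ∧ ∀ j < n, k ≤ S.T.rho^[j] r := by
  rw [UT, Finset.mem_filter, mem_P_iff]

/-- The roots with all conjugates at least `k`. -/
def SBs (k : ℕ) : Finset ℕ := S.UT k S.T.m

theorem mem_SBs {k r : ℕ} : r ∈ S.SBs k ↔ Dat.SB D S.T k r := S.mem_UT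

theorem combo_rho {r s q : ℕ} (hr : r < D.nroots) (hs : s < D.nroots) (h : Combo Q.K r s q) :
    Combo Q.K (S.T.rho r) (S.T.rho s) (S.T.rho q) := by
  obtain ⟨hq, a, b, ha, hb, e⟩ := h
  refine ⟨S.rho_lt hq, a, b, ha, hb, fun j hj => ?_⟩
  obtain ⟨l, hl, hlin⟩ := S.good.rho_lin j hj
  rw [S.cf_eq _ (S.rho_lt hq) j hj, S.cf_eq _ (S.rho_lt hr) j hj, S.cf_eq _ (S.rho_lt hs) j hj,
    hlin q hq, hlin r hr, hlin s hs, ← S.cf_eq q hq l hl, ← S.cf_eq r hr l hl,
    ← S.cf_eq s hs l hl, e l hl]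

theorem combo_iter {r s q : ℕ} (hr : r < D.nroots) (hs : s < D.nroots) (h : Combo Q.K r s q) :
    ∀ j, Combo Q.K (S.T.rho^[j] r) (S.T.rho^[j] s) (S.T.rho^[j] q)
  | 0 => h
  | j + 1 => by
      simp only [Function.iterate_succ_apply']
      exact S.combo_rho (S.iter_lt hr j) (S.iter_lt hs j) (combo_iter hr hs h j)

theorem ge_of_combo {r s q j k : ℕ} (hr : r ∈ Q.sys.P) (hs : s ∈ Q.sys.P)
    (hq : Q.sys.T r s q) (hk : k ≤ S.T.rho^[j] r) : k ≤ S.T.rho^[j] q := by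
  obtain ⟨hr1, hr2⟩ := mem_P_iff.1 hr
  obtain ⟨hs1, hs2⟩ := mem_P_iff.1 hs
  have h := S.combo_iter hr1 hs1 hq j
  exact hk.trans (Q.sys.T_pos (PC.mem_P Q (S.iter_lt hr1 j) ((S.iter_pos hr1 j).2 hr2))
    (PC.mem_P Q (S.iter_lt hs1 j) ((S.iter_pos hs1 j).2 hs2)) h).2.1.le

theorem closed_UT (k n : ℕ) : Q.sys.toUnip.Closed (S.UT k n) :=
  ⟨Finset.filter_subset _ _, fun r hr s hs _ q hq => Finset.mem_filter.2
    ⟨(Q.sys.T_pos (Finset.mem_filter.1 hr).1 (Finset.mem_filter.1 hs).1 hq).1, fun j hj =>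
      S.ge_of_combo (Finset.mem_filter.1 hr).1 (Finset.mem_filter.1 hs).1 hq
        ((Finset.mem_filter.1 hr).2 j hj)⟩⟩

theorem closed_TT (k j : ℕ) : Q.sys.toUnip.Closed (S.TT k j) :=
  ⟨Finset.filter_subset _ _, fun r hr s hs _ q hq => Finset.mem_filter.2
    ⟨(Q.sys.T_pos (Finset.mem_filter.1 hr).1 (Finset.mem_filter.1 hs).1 hq).1,
      S.ge_of_combo (Finset.mem_filter.1 hr).1 (Finset.mem_filter.1 hs).1 hq
        (Finset.mem_filter.1 hr).2⟩⟩

theorem closed_SBs (k : ℕ) : Q.sys.toUnip.Closed (S.SBs k) := S.closed_UT k S.T.m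

theorem SBs_le_U (k : ℕ) : XS Q.sys.x (↑(S.SBs k) : Set ℕ) ≤ Q.sys.U := XS_mono fun r hr =>
  Finset.mem_coe.2 (Q.sys.P_eq ▸ (Finset.mem_filter.1 hr).1)

/-- A fixed element above `k` only involves roots with all conjugates above `k`. -/
theorem mem_SBs_of_fixed {k : ℕ} {u : ↥(D.group K)} (huG : u ∈ S.G)
    (hu : u ∈ XS Q.sys.x {r | r ∈ Q.sys.P ∧ k ≤ r}) :
    u ∈ XS Q.sys.x (↑(S.SBs k) : Set ℕ) := by
  have hT : ∀ i, i ≤ S.T.m → u ∈ XS Q.sys.x (↑(S.TT k (S.T.m - i)) : Set ℕ) := by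
    intro i
    induction i with
    | zero =>
      intro _
      refine XS_mono (fun r hr => ?_) hu
      refine Finset.mem_coe.2 (Finset.mem_filter.2 ⟨hr.1, ?_⟩)
      rw [Nat.sub_zero, (S.good.period r (mem_P_iff.1 hr.1).1).1]
      exact hr.2
    | succ i ih =>
      intro hi
      have h1 := S.E.σ_XS (B := (↑(S.TT k (S.T.m - (i + 1))) : Set ℕ)) (fun r hr => ?_)
        (ih (by omega))
      · rwa [show S.E.σ u = u from huG] at h1
      · obtain ⟨hrP, hrk⟩ := Finset.mem_filter.1 (Finset.mem_coe.1 hr)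
        obtain ⟨hr1, hr2⟩ := mem_P_iff.1 hrP
        rw [S.rho_eq]
        refine ⟨hr1, Finset.mem_coe.2 (Finset.mem_filter.2
          ⟨PC.mem_P Q (S.rho_lt hr1) ((S.rho_pos hr1).2 hr2), ?_⟩)⟩
        rwa [← Function.iterate_succ_apply, show (S.T.m - (i + 1)).succ = S.T.m - i by omega]
  have hU : ∀ n, n ≤ S.T.m → u ∈ XS Q.sys.x (↑(S.UT k n) : Set ℕ) := by
    intro n
    induction n with
    | zero =>
      intro _
      exact XS_mono (fun r hr => Finset.mem_coe.2 (Finset.mem_filter.2 ⟨hr.1, fun j hj => absurd hj (Nat.not_lt_zero j)⟩)) hu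
    | succ n ih =>
      intro hn
      have h2 := hT (S.T.m - n) (by omega)
      rw [show S.T.m - (S.T.m - n) = n by omega] at h2
      refine XS_mono (fun r hr => ?_)
        (XS_inter Q.sys.toUnip (S.closed_UT k n) (S.closed_TT k n) (ih (by omega)) h2)
      obtain ⟨h3, h4⟩ := Finset.mem_inter.1 (Finset.mem_coe.1 hr)
      refine Finset.mem_coe.2 (Finset.mem_filter.2 ⟨(Finset.mem_filter.1 h3).1, fun j hj => ?_⟩)
      by_cases hjn : j = n
      · exact hjn ▸ (Finset.mem_filter.1 h4).2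
      · exact (Finset.mem_filter.1 h3).2 j (by omega)
  exact hU S.T.m le_rfl

theorem SBs_ge {k r : ℕ} (hr : r ∈ S.SBs k) : k ≤ r :=
  (S.mem_SBs.1 hr).2 0 (by have := S.good.base.2.2.2.2.2; omega)

theorem rho_SBs {k r : ℕ} (hr : r ∈ S.SBs k) : S.T.rho r ∈ S.SBs k := by
  obtain ⟨⟨h1, h2⟩, h3⟩ := S.mem_SBs.1 hr
  refine S.mem_SBs.2 ⟨⟨S.rho_lt h1, (S.rho_pos h1).2 h2⟩, fun j hj => ?_⟩
  rw [← Function.iterate_succ_apply]
  by_cases hjm : j.succ = S.T.m
  · rw [hjm, (S.good.period r h1).1]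
    exact h3 0 (by omega)
  · exact h3 _ (by omega)

/-- Splitting off the product along the orbit of the least root. -/
theorem strip {k : ℕ} (hk : k ∈ S.SBs k) {u : ↥(D.group K)} (huG : u ∈ S.G)
    (hu : u ∈ XS Q.sys.x (↑(S.SBs k) : Set ℕ)) :
    ∃ a, S.Ok k a ∧ (S.P k a)⁻¹ * u ∈ XS Q.sys.x (↑(S.SBs (k + 1)) : Set ℕ) := by
  obtain ⟨⟨hk1, hk2⟩, hkm⟩ := S.mem_SBs.1 hk
  obtain ⟨a, p, hp, e⟩ := Q.sys.toUnip.exists_head (S.closed_SBs k) hk
    (XS_mono (S' := {r | r ∈ S.SBs k ∧ k ≤ r}) (fun r hr =>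
      ⟨Finset.mem_coe.1 hr, S.SBs_ge (Finset.mem_coe.1 hr)⟩) hu)
  have hok : S.Ok k a := by
    intro hfix
    have hσp : S.E.σ p ∈ XS Q.sys.x {r | r ∈ S.SBs k ∧ k < r} := by
      refine S.E.σ_XS (fun r hr => ?_) hp
      obtain ⟨hrS, hlt⟩ := hr
      have hr1 := (S.mem_SBs.1 hrS).1.1
      rw [S.rho_eq]
      refine ⟨hr1, S.rho_SBs hrS, lt_of_le_of_ne (S.SBs_ge (S.rho_SBs hrS)) fun e => ?_⟩
      have := S.E.s.rh_inj hr1 hk1 (by rw [S.rho_eq, S.rho_eq, hfix, ← e])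
      omega
    have h1 : Q.sys.x k (S.φ a) * S.E.σ p = Q.sys.x k a * p := by
      rw [← e]
      conv_rhs => rw [← (show S.E.σ u = u from huG), e, map_mul, S.σ_x hk1, hfix,
        S.good.sg_fix k hk1 hfix, Int.cast_one, one_mul]
    exact (Q.sys.toUnip.head_unique (S.closed_SBs k) hk hσp hp h1).1
  refine ⟨a, hok, S.mem_SBs_of_fixed (mul_mem (inv_mem (S.P_mem_G hk1 hok)) huG) ?_⟩
  have hrest := S.P_rest hk1 hk2 hkm a
  rw [S.P_split k a, mul_inv_rev, e, mul_assoc, inv_mul_cancel_left]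
  have hp' : p ∈ XS Q.sys.x {q | q ∈ Q.sys.P ∧ k < q} :=
    XS_mono (fun q hq => show q ∈ Q.sys.P ∧ k < q from ⟨(Finset.mem_filter.1 hq.1).1, hq.2⟩) hp
  exact XS_mono (fun q hq => show q ∈ Q.sys.P ∧ k + 1 ≤ q from ⟨hq.1, hq.2⟩)
    (mul_mem (inv_mem hrest) hp')

theorem SBs_empty {k : ℕ} (hk : D.nroots ≤ k) {u : ↥(D.group K)}
    (hu : u ∈ XS Q.sys.x (↑(S.SBs k) : Set ℕ)) : u = 1 := by
  have h0 : (↑(S.SBs k) : Set ℕ) = ∅ := Set.eq_empty_iff_forall_notMem.2 fun r hr => by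
    have h1 := S.SBs_ge (Finset.mem_coe.1 hr)
    have h2 := (S.mem_SBs.1 (Finset.mem_coe.1 hr)).1.1
    omega
  rwa [h0, XS_empty, Subgroup.mem_bot] at hu

/-- Without moved roots, fixed elements are rational. -/
theorem rat_of_all_fixed : ∀ (N k : ℕ), D.nroots ≤ k + N → (∀ r ∈ S.SBs k, S.T.rho r = r) →
    ∀ u ∈ XS Q.sys.x (↑(S.SBs k) : Set ℕ), u ∈ S.G → u ∈ S.rat
  | 0, k, hk, _, u, hu, _ => by rw [S.SBs_empty (by omega) hu]; exact one_mem _
  | N + 1, k, hk, hall, u, hu, huG => by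
      have hsub : ∀ r ∈ S.SBs (k + 1), r ∈ S.SBs k := fun r hr =>
        S.mem_SBs.2 ⟨(S.mem_SBs.1 hr).1, fun j hj => by
          have := (S.mem_SBs.1 hr).2 j hj; omega⟩
      by_cases hkk : k ∈ S.SBs k
      · obtain ⟨a, hok, h1⟩ := S.strip hkk huG hu
        have hPr := S.P_mem_rat (S.mem_SBs.1 hkk).1.1 (hok (hall k hkk))
        have h2 := rat_of_all_fixed N (k + 1) (by omega) (fun r hr => hall r (hsub r hr)) _ h1
          (mul_mem (inv_mem hPr.1) huG)
        have h3 := mul_mem hPr h2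
        rwa [mul_inv_cancel_left] at h3
      · refine rat_of_all_fixed N (k + 1) (by omega) (fun r hr => hall r (hsub r hr)) u
          (S.mem_SBs_of_fixed huG (XS_mono (fun r hr => show r ∈ Q.sys.P ∧ k + 1 ≤ r from
            ⟨(Finset.mem_filter.1 hr).1, ?_⟩) hu)) huG
        have h4 : k ≤ r := S.SBs_ge (k := k) (Finset.mem_coe.1 hr)
        rcases Nat.eq_or_lt_of_le h4 with h5 | h5
        · subst h5; exact absurd (Finset.mem_coe.1 hr) hkk
        · omega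

/-- The part strictly above `t`. -/
def NN (t : ℕ) : Subgroup ↥(D.group K) := XS Q.sys.x {r | r ∈ S.SBs t ∧ t < r}

/-- Congruence to `x_t(κ)` modulo the part above. -/
def Cg (t : ℕ) (κ : K) (g : ↥(D.group K)) : Prop := ∃ n ∈ S.NN t, g = Q.sys.x t κ * n

theorem Cg.mul {t : ℕ} (ht : t ∈ S.SBs t) {κ κ' : K} {g g' : ↥(D.group K)} (h : S.Cg t κ g)
    (h' : S.Cg t κ' g') : S.Cg t (κ + κ') (g * g') := by
  obtain ⟨n, hn, rfl⟩ := h
  obtain ⟨n', hn', rfl⟩ := h'
  refine ⟨(Q.sys.x t κ')⁻¹ * n * Q.sys.x t κ' * n',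
    mul_mem (Q.sys.toUnip.conj_tail' (S.closed_SBs t) ht κ' hn) hn', ?_⟩
  rw [Q.sys.x_add' t (S.mem_SBs.1 ht).1.1]; group

theorem Cg.inv {t : ℕ} (ht : t ∈ S.SBs t) {κ : K} {g : ↥(D.group K)} (h : S.Cg t κ g) :
    S.Cg t (-κ) g⁻¹ := by
  obtain ⟨n, hn, rfl⟩ := h
  have e : Q.sys.x t (-κ) = (Q.sys.x t κ)⁻¹ := eq_inv_of_mul_eq_one_left (by
    rw [← Q.sys.x_add' t (S.mem_SBs.1 ht).1.1, neg_add_cancel,
      Q.sys.x_zero' (S.mem_SBs.1 ht).1.1])
  exact ⟨Q.sys.x t κ * n⁻¹ * (Q.sys.x t κ)⁻¹,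
    Q.sys.toUnip.conj_tail (S.closed_SBs t) ht κ (inv_mem hn), by rw [e]; group⟩

theorem Cg.one {t : ℕ} (ht : t ∈ S.SBs t) : S.Cg t 0 1 :=
  ⟨1, one_mem _, by rw [Q.sys.x_zero' (S.mem_SBs.1 ht).1.1, one_mul]⟩

theorem Cg.of_NN {t : ℕ} (ht : t ∈ S.SBs t) {g : ↥(D.group K)} (hg : g ∈ S.NN t) : S.Cg t 0 g :=
  ⟨g, hg, by rw [Q.sys.x_zero' (S.mem_SBs.1 ht).1.1, one_mul]⟩

/-- The commutator `y⁻¹ g⁻¹ y g`. -/
def cm (y g : ↥(D.group K)) : ↥(D.group K) := y⁻¹ * g⁻¹ * y * g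

theorem cm_x {x s : ℕ} (hx : x < D.nroots) (hs : s < D.nroots) (h1 : x ≠ s) (h2 : x ≠ D.neg s)
    (l a : K) : cm (Q.sys.x x l) (Q.sys.x s a) = ((D.commTerms s x).map fun c =>
      Q.sys.x c.1 ((c.2.1 : K) * (-a) ^ c.2.2.1 * l ^ c.2.2.2)).prod := by
  have h := comm_word (Q := Q) hs hx h1 h2 a l
  rw [cm, show (Q.sys.x x l)⁻¹ * (Q.sys.x s a)⁻¹ * Q.sys.x x l * Q.sys.x s a =
    (Q.sys.x s a * Q.sys.x x l)⁻¹ * (Q.sys.x x l * Q.sys.x s a) by group, h]
  group

omit S in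
theorem pos_ne_neg (Q : Chev.Data D K) {x s : ℕ} (hx : Dat.Pos D x) (hs : Dat.Pos D s) : x ≠ D.neg s := by
  have h1 := Q.K.neg_eq s hs.1
  have h3 := Q.K.two_half
  have := hx.1; have := hx.2; have := hs.1; have := hs.2
  omega

theorem orbit_pos {r x : ℕ} (hr : Dat.Pos D r) (hx : x ∈ S.T.orbit r) : Dat.Pos D x := by
  obtain ⟨j, -, rfl⟩ := List.mem_map.1 hx
  exact ⟨S.iter_lt hr.1 j, (S.iter_pos hr.1 j).2 hr.2⟩

section Step

variable {S} {k b t : ℕ} (hst : Dat.Step D S.T k b t)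

/-- The elements preserving congruence modulo the part above `t`. -/
def Nm (S : Setup Q) (t : ℕ) : Subgroup ↥(D.group K) where
  carrier := {g | ∀ κ w, S.Cg t κ w → S.Cg t κ (g⁻¹ * w * g) ∧ S.Cg t κ (g * w * g⁻¹)}
  one_mem' κ w h := by simpa using h
  mul_mem' {a b} ha hb κ w h := by
    refine ⟨?_, ?_⟩
    · rw [show (a * b)⁻¹ * w * (a * b) = b⁻¹ * (a⁻¹ * w * a) * b by group]
      exact (hb _ _ (ha _ _ h).1).1
    · rw [show a * b * w * (a * b)⁻¹ = a * (b * w * b⁻¹) * a⁻¹ by group]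
      exact (ha _ _ (hb _ _ h).2).2
  inv_mem' {a} ha κ w h := by simpa using And.intro (ha κ w h).2 (ha κ w h).1

include hst

theorem _root_.Cfsg.Agent.H51.Tw.Dat.Step.t_mem : t ∈ S.SBs t := S.mem_SBs.2 hst.lt.2.2.2.1

theorem _root_.Cfsg.Agent.H51.Tw.Dat.Step.cm_NN {x : ℕ} (hx : x ∈ S.SBs k ∨ x ∈ S.T.orbit b) {s : ℕ} (hs : s ∈ S.SBs t)
    (l a : K) : cm (Q.sys.x x l) (Q.sys.x s a) ∈ S.NN t := by
  have hxP : Dat.Pos D x := hx.elim (fun h => (S.mem_SBs.1 h).1) (S.orbit_pos hst.lt.2.2.1)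
  have hsP := (S.mem_SBs.1 hs).1
  by_cases hsx : s = x
  · subst hsx
    rw [cm, show (Q.sys.x s l)⁻¹ * (Q.sys.x s a)⁻¹ * Q.sys.x s l * Q.sys.x s a =
      (Q.sys.x s a * Q.sys.x s l)⁻¹ * (Q.sys.x s l * Q.sys.x s a) by group,
      ← Q.sys.x_add' s hsP.1, ← Q.sys.x_add' s hsP.1, add_comm, inv_mul_cancel]
    exact one_mem _
  rw [cm_x hxP.1 hsP.1 (Ne.symm hsx) (pos_ne_neg Q hxP hsP)]
  refine Subgroup.list_prod_mem _ fun g hg => ?_
  obtain ⟨c, hc, rfl⟩ := List.mem_map.1 hg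
  obtain ⟨h1, h2⟩ := hst.norm x hxP.1 (hx.imp S.mem_SBs.1 id) s hsP.1 (S.mem_SBs.1 hs) hsx c hc
  have h3 : c.1 ∈ S.SBs t := S.mem_SBs.2 h1
  exact x_mem_XS (S := {r | r ∈ S.SBs t ∧ t < r})
    ⟨h3, lt_of_le_of_ne (S.SBs_ge h3) (Ne.symm h2)⟩ _

theorem _root_.Cfsg.Agent.H51.Tw.Dat.Step.x_mem_Nm {x : ℕ} (hx : x ∈ S.SBs k ∨ x ∈ S.T.orbit b) (l : K) :
    Q.sys.x x l ∈ Nm S t := by
  have hxP : Dat.Pos D x := hx.elim (fun h => (S.mem_SBs.1 h).1) (S.orbit_pos hst.lt.2.2.1)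
  have hl : ∀ l, (Q.sys.x x l)⁻¹ = Q.sys.x x (-l) := fun l => (eq_inv_of_mul_eq_one_left (by
    rw [← Q.sys.x_add' x hxP.1, neg_add_cancel, Q.sys.x_zero' hxP.1])).symm
  have key : ∀ l κ w, S.Cg t κ w → S.Cg t κ ((Q.sys.x x l)⁻¹ * w * Q.sys.x x l) := by
    intro l κ w ⟨n, hn, e⟩
    have ht := hst.t_mem
    have hn' : (Q.sys.x x l)⁻¹ * n * Q.sys.x x l ∈ S.NN t := by
      have := conj_mem_XS (a := (Q.sys.x x l)⁻¹) (K := S.NN t) (fun s hs a => by
        have h1 := hst.cm_NN hx hs.1 l (-a)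
        have hsn : Q.sys.x s (-a) = (Q.sys.x s a)⁻¹ := eq_inv_of_mul_eq_one_left (by
          rw [← Q.sys.x_add' s (S.mem_SBs.1 hs.1).1.1, neg_add_cancel,
            Q.sys.x_zero' (S.mem_SBs.1 hs.1).1.1])
        rw [cm, hsn, inv_inv] at h1
        have h2 := mul_mem h1 (x_mem_XS (x := Q.sys.x) (S := {r | r ∈ S.SBs t ∧ t < r}) hs a)
        rw [inv_inv]
        rwa [inv_mul_cancel_right] at h2) hn
      rwa [inv_inv] at this
    have h1 := hst.cm_NN hx ht l (-κ)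
    have htn : Q.sys.x t (-κ) = (Q.sys.x t κ)⁻¹ := eq_inv_of_mul_eq_one_left (by
      rw [← Q.sys.x_add' t (S.mem_SBs.1 ht).1.1, neg_add_cancel,
        Q.sys.x_zero' (S.mem_SBs.1 ht).1.1])
    rw [cm, htn, inv_inv] at h1
    refine ⟨(Q.sys.x t κ)⁻¹ * ((Q.sys.x x l)⁻¹ * Q.sys.x t κ * Q.sys.x x l * (Q.sys.x t κ)⁻¹) *
      Q.sys.x t κ * ((Q.sys.x x l)⁻¹ * n * Q.sys.x x l),
      mul_mem (Q.sys.toUnip.conj_tail' (S.closed_SBs t) ht κ h1) hn', ?_⟩
    rw [e]; group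
  refine fun κ w h => ⟨key l κ w h, ?_⟩
  have := key (-l) κ w h
  rwa [← hl l, inv_inv] at this

theorem _root_.Cfsg.Agent.H51.Tw.Dat.Step.cm_x_Cg {x : ℕ} (hx : x ∈ S.T.orbit b) {s : ℕ} (hs : s ∈ S.SBs k) (l a : K) :
    S.Cg t (((D.commTerms s x).filter fun c => c.1 == t).map fun c =>
      (c.2.1 : K) * -a * l).sum (cm (Q.sys.x x l) (Q.sys.x s a)) ∧
    (((D.commTerms s x).filter fun c => c.1 == t) ≠ [] → s ∈ S.T.orbit k) := by
  have hxP := S.orbit_pos hst.lt.2.2.1 hx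
  have hsP := (S.mem_SBs.1 hs).1
  have ht := hst.t_mem
  by_cases hsx : s = x
  · subst hsx
    have hsk := hst.lt.2.2.2.2 s hx
    have h0 : D.commTerms s s = [] := hsk.2
    rw [h0, List.filter_nil, List.map_nil, List.sum_nil]
    refine ⟨?_, fun h => absurd rfl h⟩
    rw [cm, show (Q.sys.x s l)⁻¹ * (Q.sys.x s a)⁻¹ * Q.sys.x s l * Q.sys.x s a =
      (Q.sys.x s a * Q.sys.x s l)⁻¹ * (Q.sys.x s l * Q.sys.x s a) by group,
      ← Q.sys.x_add' s hsP.1, ← Q.sys.x_add' s hsP.1, add_comm, inv_mul_cancel]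
    exact Cg.one S ht
  refine ⟨?_, fun h => ?_⟩
  · rw [cm_x hxP.1 hsP.1 (Ne.symm hsx) (pos_ne_neg Q hxP hsP)]
    have hall := hst.into x hx s hsP.1 (S.mem_SBs.1 hs) hsx
    clear hsx
    revert hall
    generalize D.commTerms s x = L
    intro hall
    induction L with
    | nil => exact Cg.one S ht
    | cons c L ih =>
      have ih' := ih fun d hd => hall d (List.mem_cons_of_mem _ hd)
      obtain ⟨h1, h2⟩ := hall c (by simp)
      rw [List.map_cons, List.prod_cons, List.filter_cons]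
      by_cases hct : c.1 = t
      · obtain ⟨-, hi, hj⟩ := h2 hct
        rw [if_pos (by simpa using hct), List.map_cons, List.sum_cons, hi, hj, pow_one, pow_one,
          hct]
        exact Cg.mul S ht ⟨1, one_mem _, (mul_one _).symm⟩ ih'
      · rw [if_neg (by simpa using hct)]
        have h3 := Cg.mul S ht (Cg.of_NN S ht (x_mem_XS (x := Q.sys.x)
          (S := {r | r ∈ S.SBs t ∧ t < r}) ⟨S.mem_SBs.2 h1,
            lt_of_le_of_ne (S.SBs_ge (S.mem_SBs.2 h1)) (Ne.symm hct)⟩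
            ((c.2.1 : K) * (-a) ^ c.2.2.1 * l ^ c.2.2.2))) ih'
        rwa [zero_add] at h3
  · obtain ⟨c, hc⟩ := List.exists_mem_of_ne_nil _ h
    obtain ⟨hc1, hc2⟩ := List.mem_filter.1 hc
    exact ((hst.into x hx s hsP.1 (S.mem_SBs.1 hs) hsx c hc1).2 (by simpa using hc2)).1

omit hst in
theorem cm_mul_right (y a b : ↥(D.group K)) : cm y (a * b) = cm y b * (b⁻¹ * cm y a * b) := by
  simp only [cm]; group

omit hst in
theorem cm_mul_left (y z a : ↥(D.group K)) : cm (y * z) a = z⁻¹ * cm y a * z * cm z a := by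
  simp only [cm]; group

theorem _root_.Cfsg.Agent.H51.Tw.Dat.Step.cm_prod_right (y : ↥(D.group K)) (f : ℕ → ↥(D.group K)) (κ : ℕ → K) :
    ∀ L : List ℕ, (∀ j ∈ L, f j ∈ Nm S t ∧ S.Cg t (κ j) (cm y (f j))) →
      S.Cg t (L.map κ).sum (cm y (L.map f).prod) := by
  intro L h
  induction L with
  | nil => simp only [List.map_nil, List.prod_nil, List.sum_nil]; simpa [cm] using Cg.one S hst.t_mem
  | cons j L ihL =>
      have ih := ihL fun i hi => h i (List.mem_cons_of_mem _ hi)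
      simp only [List.map_cons, List.prod_cons, List.sum_cons, cm_mul_right]
      rw [add_comm]
      refine Cg.mul S hst.t_mem ih ?_
      refine ((show (L.map f).prod ∈ Nm S t from Subgroup.list_prod_mem _ fun g hg => ?_) _ _
        (h j (by simp)).2).1
      obtain ⟨i, hi, rfl⟩ := List.mem_map.1 hg
      exact (h i (List.mem_cons_of_mem _ hi)).1

theorem _root_.Cfsg.Agent.H51.Tw.Dat.Step.cm_prod_left (a : ↥(D.group K)) (f : ℕ → ↥(D.group K)) (κ : ℕ → K) :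
    ∀ L : List ℕ, (∀ j ∈ L, f j ∈ Nm S t ∧ S.Cg t (κ j) (cm (f j) a)) →
      S.Cg t (L.map κ).sum (cm (L.map f).prod a) := by
  intro L h
  induction L with
  | nil => simp only [List.map_nil, List.prod_nil, List.sum_nil]; simpa [cm] using Cg.one S hst.t_mem
  | cons j L ihL =>
      have ih := ihL fun i hi => h i (List.mem_cons_of_mem _ hi)
      simp only [List.map_cons, List.prod_cons, List.sum_cons, cm_mul_left]
      refine Cg.mul S hst.t_mem ?_ ih
      refine ((show (L.map f).prod ∈ Nm S t from Subgroup.list_prod_mem _ fun g hg => ?_) _ _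
        (h j (by simp)).2).1
      obtain ⟨i, hi, rfl⟩ := List.mem_map.1 hg
      exact (h i (List.mem_cons_of_mem _ hi)).1

omit hst in
theorem sum_flatMap {α : Type*} (f : α → List K) : ∀ L : List α,
    (L.flatMap f).sum = (L.map fun a => (f a).sum).sum
  | [] => rfl
  | a :: L => by simp [List.sum_append, sum_flatMap f L]

theorem _root_.Cfsg.Agent.H51.Tw.Dat.Step.cm_P (hk : k ∈ S.SBs k) (a : K) :
    S.Cg t ((Dat.contrib D S.T k b t).map fun p => (p.2 : K) * (⇑S.φ)^[p.1] a).sum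
      (cm (S.P b 1) (S.P k a)) := by
  obtain ⟨⟨hk1, hk2⟩, hkm⟩ := S.mem_SBs.1 hk
  have hb := hst.lt.2.2.1
  have hjk : ∀ j, S.T.rho^[j] k ∈ S.SBs k := by
    intro j
    induction j with
    | zero => exact hk
    | succ j ih => rw [Function.iterate_succ_apply']; exact S.rho_SBs ih
  have hmemk : ∀ j < S.T.orbSize k, S.T.rho^[j] k ∈ S.T.orbit k := fun j hj =>
    List.mem_map.2 ⟨j, List.mem_range.2 hj, rfl⟩
  have hmemb : ∀ i < S.T.orbSize b, S.T.rho^[i] b ∈ S.T.orbit b := fun i hi =>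
    List.mem_map.2 ⟨i, List.mem_range.2 hi, rfl⟩
  have h := hst.cm_prod_left (S.P k a) (fun i => (⇑S.E.σ)^[i] (Q.sys.x b 1))
    (fun i => ((List.range (S.T.orbSize k)).map fun j =>
      (((D.commTerms (S.T.rho^[j] k) (S.T.rho^[i] b)).filter fun c => c.1 == t).map fun c =>
        (c.2.1 : K) * -(S.g j k a) * S.g i b 1).sum).sum) (List.range (S.T.orbSize b))
    (fun i hi => by
      rw [List.mem_range] at hi
      simp only [S.σ_iter_x hb.1]
      refine ⟨hst.x_mem_Nm (Or.inr (hmemb i hi)) _, ?_⟩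
      refine hst.cm_prod_right _ (fun j => (⇑S.E.σ)^[j] (Q.sys.x k a)) _ _ fun j _ => ?_
      simp only [S.σ_iter_x hk1]
      exact ⟨hst.x_mem_Nm (Or.inl (hjk j)) _, (hst.cm_x_Cg (hmemb i hi) (hjk j) _ _).1⟩)
  show S.Cg t _ (cm ((List.range (S.T.orbSize b)).map fun i =>
    (⇑S.E.σ)^[i] (Q.sys.x b 1)).prod (S.P k a))
  convert h using 1
  have hφ1 : ∀ i, (⇑S.φ)^[i] (1 : K) = 1 := fun i => by
    induction i with
    | zero => rfl
    | succ i ih => rw [Function.iterate_succ_apply', ih, map_one]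
  simp only [Dat.contrib, List.map_flatMap, List.map_map, sum_flatMap]
  refine congrArg List.sum (List.map_congr_left fun i _ => congrArg List.sum
    (List.map_congr_left fun j _ => congrArg List.sum (List.map_congr_left fun c _ => ?_)))
  simp only [Function.comp_apply, S.g_eq, hφ1]
  push_cast
  ring

end Step

/-- An ascent of an irrational coordinate. -/
theorem climb_step {H : Subgroup ↥(D.group K)} (hrat : S.rat ≤ H) (hG : H ≤ S.G) {k b t : ℕ}
    (hst : Dat.Step D S.T k b t) (hk : k ∈ S.SBs k) (hmoved : S.T.rho k ≠ k) {a : K}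
    (ha : S.φ a ≠ a) {u : ↥(D.group K)} (huH : u ∈ H)
    (hu' : (S.P k a)⁻¹ * u ∈ XS Q.sys.x (↑(S.SBs (k + 1)) : Set ℕ)) :
    ∃ v ∈ H, v ∈ XS Q.sys.x (↑(S.SBs t) : Set ℕ) ∧ v ∉ S.rat := by
  have ht := hst.t_mem
  obtain ⟨⟨hk1, hk2⟩, hkm⟩ := S.mem_SBs.1 hk
  have hb := hst.lt.2.2.1
  set y := S.P b 1
  have hy : y ∈ S.rat := S.P_mem_rat hb.1 (map_one S.φ)
  set u' := (S.P k a)⁻¹ * u with hu'def
  have hsub : ∀ s ∈ S.SBs (k + 1), s ∈ S.SBs k ∧ s ∉ S.T.orbit k := by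
    intro s hs
    obtain ⟨hsP, hsm⟩ := S.mem_SBs.1 hs
    refine ⟨S.mem_SBs.2 ⟨hsP, fun j hj => by have := hsm j hj; omega⟩, fun hso => ?_⟩
    obtain ⟨i, hi, rfl⟩ := List.mem_map.1 hso
    rw [List.mem_range, Dat.orbSize, if_neg hmoved] at hi
    by_cases hi0 : i = 0
    · subst hi0
      have := hsm 0 (by omega)
      simp at this
    · have := hsm (S.T.m - i) (by omega)
      rw [← Function.iterate_add_apply, Nat.sub_add_cancel hi.le, (S.good.period k hk1).1] at this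
      omega
  have hNm : u' ∈ Nm S t :=
    (XS_le fun s hs l => hst.x_mem_Nm (Or.inl (hsub s (Finset.mem_coe.1 hs)).1) l :
      XS Q.sys.x (↑(S.SBs (k + 1)) : Set ℕ) ≤ Nm S t) hu'
  let C : Subgroup ↥(D.group K) :=
    { carrier := {g | g ∈ Nm S t ∧ S.Cg t 0 (cm y g)}
      one_mem' := ⟨one_mem _, by simpa [cm] using Cg.one S ht⟩
      mul_mem' := fun {a b} ha hb => ⟨mul_mem ha.1 hb.1, by
        rw [cm_mul_right, show (0 : K) = 0 + 0 by rw [add_zero]]
        exact Cg.mul S ht hb.2 (hb.1 _ _ ha.2).1⟩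
      inv_mem' := fun {a} ha => ⟨inv_mem ha.1, by
        have h1 := Cg.inv S ht ha.2
        rw [neg_zero] at h1
        have h2 := (ha.1 _ _ h1).2
        rwa [show cm y a⁻¹ = a * (cm y a)⁻¹ * a⁻¹ by simp only [cm]; group]⟩ }
  have hC : XS Q.sys.x (↑(S.SBs (k + 1)) : Set ℕ) ≤ C := XS_le fun s hs l => by
    obtain ⟨hsk, hso⟩ := hsub s (Finset.mem_coe.1 hs)
    refine ⟨hst.x_mem_Nm (Or.inl hsk) l, ?_⟩
    have h := hst.cm_prod_left (Q.sys.x s l) (fun i => (⇑S.E.σ)^[i] (Q.sys.x b 1))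
      (fun _ => (0 : K)) (List.range (S.T.orbSize b)) (fun i hi => by
        have hmem : S.T.rho^[i] b ∈ S.T.orbit b := List.mem_map.2 ⟨i, hi, rfl⟩
        simp only [S.σ_iter_x hb.1]
        refine ⟨hst.x_mem_Nm (Or.inr hmem) _, ?_⟩
        obtain ⟨h1, h2⟩ := hst.cm_x_Cg hmem hsk (S.g i b 1) l
        rw [show (D.commTerms s (S.T.rho^[i] b)).filter (fun c => c.1 == t) = [] from
          not_not.1 fun hne => hso (h2 hne), List.map_nil, List.sum_nil] at h1
        exact h1)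
    rw [show (List.map (fun _ => (0 : K)) (List.range (S.T.orbSize b))).sum = 0 by simp] at h
    exact h
  set κ := ((Dat.contrib D S.T k b t).map fun p => (p.2 : K) * (⇑S.φ)^[p.1] a).sum with hκ
  have hP := hst.cm_P hk a
  have hv : S.Cg t (0 + κ) (cm y u) := by
    rw [show u = S.P k a * u' by rw [hu'def, mul_inv_cancel_left], cm_mul_right]
    exact Cg.mul S ht (hC hu').2 (hNm _ _ hP).1
  rw [zero_add] at hv
  obtain ⟨n, hn, ev⟩ := hv
  have hinj : Function.Injective S.φ := S.φ.injective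
  have hirr : S.φ κ ≠ κ := by
    rw [hκ]
    have hit : ∀ j, S.φ ((⇑S.φ)^[j] a) = (⇑S.φ)^[j] (S.φ a) := fun j => by
      rw [← Function.iterate_succ_apply' (⇑S.φ), Function.iterate_succ_apply]
    have he : ∀ e : ℤ, (e = 1 ∨ e = -1) → (e : K) ≠ 0 := by
      rintro e (rfl | rfl) <;> simp
    rcases hst.coef with ⟨p, -, hp, hsgn⟩ | ⟨hm3, p, -, p', -, hp, heq, hsgn, hne, hp3, hp'3⟩
    · rw [hp, List.map_singleton, List.sum_singleton, map_mul, map_intCast, hit]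
      exact fun h => ha (Function.Injective.iterate hinj _ (mul_left_cancel₀ (he _ hsgn) h))
    · rw [hp, List.map_cons, List.map_singleton, List.sum_cons, List.sum_singleton, ← heq,
        ← mul_add, map_mul, map_intCast]
      intro h
      have h' := mul_left_cancel₀ (he _ hsgn) h
      have h3 : S.φ (S.φ (S.φ a)) = a := by
        have := S.φ_pow a
        rw [hm3] at this
        exact this
      rw [map_add, hit, hit] at h'
      have hsum : ∀ i j, i ≠ j → i < 3 → j < 3 →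
          (⇑S.φ)^[i] (S.φ a) + (⇑S.φ)^[j] (S.φ a) = (⇑S.φ)^[i] a + (⇑S.φ)^[j] a → False := by
        intro i j hij hi hj e
        interval_cases i <;> interval_cases j <;>
          first
            | exact hij rfl
            | (simp only [Function.iterate_succ_apply', Function.iterate_zero, id_eq, h3] at e
               first
                | exact ha (hinj (by linear_combination e))
                | exact ha (hinj (by linear_combination -e))
                | exact ha (by linear_combination e)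
                | exact ha (by linear_combination -e)
                | exact ha (hinj (hinj (by linear_combination e)))
                | exact ha (hinj (hinj (by linear_combination -e)))
                | exact ha (by
                    have := congrArg S.φ (show S.φ (S.φ a) = a by linear_combination e)
                    rw [h3] at this; exact this.symm)
                | exact ha (by
                    have := congrArg S.φ (show S.φ (S.φ a) = a by linear_combination -e)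
                    rw [h3] at this; exact this.symm))
      exact hsum _ _ hne hp3 hp'3 h'
  refine ⟨cm y u, ?_, ?_, fun hr => hirr ?_⟩
  · have := hrat hy
    exact mul_mem (mul_mem (mul_mem (inv_mem this) (inv_mem huH)) this) huH
  · rw [ev]
    exact mul_mem (x_mem_XS (Finset.mem_coe.2 ht) κ)
      (XS_mono (S' := (↑(S.SBs t) : Set ℕ)) (fun r hr => Finset.mem_coe.2 hr.1) hn)
  · have h1 : S.fr (cm y u) = cm y u := hr.2
    rw [ev, map_mul, Sub.frob_x] at h1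
    exact (Q.sys.toUnip.head_unique (S.closed_SBs t) ht (Sub.frob_XS Q S.φ hn) hn h1).1

/-- An irrational unipotent element gives one along the last orbit. -/
theorem exists_pure {L : List (ℕ × ℕ × ℕ)} {term : ℕ} (hC : Dat.Climb D S.T L term)
    {H : Subgroup ↥(D.group K)} (hrat : S.rat ≤ H) (hG : H ≤ S.G) {u : ↥(D.group K)}
    (hu : u ∈ Q.sys.U) (huH : u ∈ H) (hn : u ∉ S.rat) :
    ∃ a, S.φ a ≠ a ∧ S.P term a ∈ H := by
  suffices ∀ N k, D.nroots ≤ k + N → ∀ u ∈ XS Q.sys.x (↑(S.SBs k) : Set ℕ), u ∈ H → u ∉ S.rat →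
      ∃ a, S.φ a ≠ a ∧ S.P term a ∈ H from
    this D.nroots 0 (by omega) u (S.mem_SBs_of_fixed (hG huH)
      (XS_mono (fun r hr => show r ∈ Q.sys.P ∧ 0 ≤ r from ⟨Q.sys.P_eq ▸ Finset.mem_coe.1 hr, Nat.zero_le r⟩) hu)) huH hn
  intro N
  induction N using Nat.strong_induction_on with
  | _ N ih =>
    intro k hk u hu huH hn
    by_cases hkn : D.nroots ≤ k
    · exact absurd (by rw [S.SBs_empty hkn hu]; exact one_mem _) hn
    by_cases hkk : k ∈ S.SBs k
    swap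
    · rcases hC.skip k (by omega) with h | h
      · exact absurd (S.mem_SBs.2 h) hkk
      · exact ih (N - 1) (by omega) (k + 1) (by omega) u
          (XS_mono (fun r hr => Finset.mem_coe.2 (S.mem_SBs.2
            (h r (S.mem_SBs.1 (Finset.mem_coe.1 hr)).1.1 (S.mem_SBs.1 (Finset.mem_coe.1 hr))))) hu)
          huH hn
    obtain ⟨a, hok, hu'⟩ := S.strip hkk (hG huH) hu
    have hk1 := (S.mem_SBs.1 hkk).1.1
    by_cases ha : S.φ a = a
    · have hP := S.P_mem_rat hk1 ha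
      refine ih (N - 1) (by omega) (k + 1) (by omega) _ hu'
        (mul_mem (inv_mem (hrat hP)) huH) fun h => hn ?_
      have := mul_mem hP h
      rwa [mul_inv_cancel_left] at this
    have hmoved : S.T.rho k ≠ k := fun h => ha (hok h)
    rcases hC.climb k (by omega) (S.mem_SBs.1 hkk) hmoved with ⟨p, -, rfl, hst⟩ | ⟨rfl, hall⟩
    · obtain ⟨v, hvH, hvt, hvn⟩ := S.climb_step hrat hG hst hkk hmoved ha huH hu'
      exact ih (N - 1) (by omega) _ (by have := hst.lt.1; omega) v hvt hvH hvn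
    · refine ⟨a, ha, ?_⟩
      have hr := S.rat_of_all_fixed D.nroots (k + 1) (by omega)
        (fun r hr => hall r (S.mem_SBs.1 hr).1.1 (S.mem_SBs.1 hr)) _ hu'
        (mul_mem (inv_mem (S.P_mem_G hk1 hok)) (hG huH))
      have h1 := mul_mem huH (inv_mem (hrat hr))
      rwa [mul_inv_rev, inv_inv, mul_inv_cancel_left] at h1

end Setup

end Cfsg.Agent.H51.Tw
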