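import Cfsg.Agent.H51.TwMax.Points
import Cfsg.Agent.H51.TwMax.Push

/-!
The parameters along an orbit present in a subgroup, and the dichotomy.
-/

set_option autoImplicit false

namespace Cfsg.Agent.H51.Tw

open Cfsg.Lie Cfsg.Agent.H37 Cfsg.Agent.H37.RootSys Cfsg.Agent.H37.NormalForm

variable {D : ChevalleyDatum} {K : Type*} [Field K] {Q : Chev.Data D K}

namespace Setup

variable (S : Setup Q) (H : Subgroup ↥(D.group K))

/-- The parameters at a root present in `H`. -/
def par {r : ℕ} (hr : r < D.nroots) : AddSubgroup K where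
  carrier := {a | S.P r a ∈ H}
  add_mem' {a b} ha hb := by
    show S.P r (a + b) ∈ H
    rw [S.P_add hr]; exact mul_mem ha hb
  zero_mem' := by show S.P r 0 ∈ H; rw [S.P_zero hr]; exact one_mem _
  neg_mem' {a} ha := by
    show S.P r (-a) ∈ H
    rw [S.P_neg hr]; exact inv_mem ha

variable {S H}

theorem mem_par {r : ℕ} {hr : r < D.nroots} {a : K} : a ∈ S.par H hr ↔ S.P r a ∈ H := Iff.rfl

theorem sign_mem {A : AddSubgroup K} {e : ℤ} (he : e = 1 ∨ e = -1) {a : K} :
    (e : K) * a ∈ A ↔ a ∈ A := by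
  rcases he with rfl | rfl <;> simp

theorem par_fixed (hrat : S.rat ≤ H) {r : ℕ} (hr : r < D.nroots) {a : K} (ha : S.φ a = a) :
    a ∈ S.par H hr := hrat (S.P_mem_rat hr ha)

theorem par_word (hrat : S.rat ≤ H) {wd : List ℕ} (hw : wd ∈ S.T.ws) {r r' : ℕ}
    (hr : r < D.nroots) (hr' : r' < D.nroots) (e : Dat.act D wd r = r') {a : K} :
    a ∈ S.par H hr ↔ a ∈ S.par H hr' := by
  subst e
  obtain ⟨e, he, h⟩ := S.nW_conj_P hw hr
  have hn := hrat (S.nW_mem_rat hw)
  rw [← sign_mem (A := S.par H hr') he (a := a), mem_par, mem_par, ← h]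
  constructor
  · intro h1; exact mul_mem (mul_mem hn h1) (inv_mem hn)
  · intro h1
    have := mul_mem (mul_mem (inv_mem hn) h1) hn
    rwa [show (nW Q wd)⁻¹ * (nW Q wd * S.P r a * (nW Q wd)⁻¹) * nW Q wd = S.P r a by group] at this

/-- Transport along a list of words, given by their positions. -/
theorem par_words (hrat : S.rat ≤ H) {a : K} : ∀ (L : List ℕ) {r r' : ℕ} (hr : r < D.nroots)
    (hr' : r' < D.nroots),
    (∀ j ∈ L, j < S.T.ws.length) → L.foldl (fun x j => Dat.act D (S.T.ws.getD j []) x) r = r' →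
    (a ∈ S.par H hr ↔ a ∈ S.par H hr')
  | [], r, r', hr, hr', _, e => by
      rw [List.foldl_nil] at e
      subst e
      rfl
  | j :: L, r, r', hr, hr', hL, e => by
      rw [List.foldl_cons] at e
      have hmem : S.T.ws.getD j [] ∈ S.T.ws := by
        rw [List.getD_eq_getElem _ _ (hL j (by simp))]; exact List.getElem_mem _
      have hlt := act_lt Q (S.ws_lt hmem) hr
      exact (par_word hrat hmem hr hlt rfl).trans
        (par_words hrat L hlt hr' (fun i hi => hL i (by simp [hi])) e)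

theorem sg_pm_cast {r : ℕ} (hr : r < D.nroots) : (S.T.sg r : K) ≠ 0 := by
  have := (S.E.f_inv r hr 1 one_ne_zero).1
  rwa [S.f_eq r hr, map_one, mul_one] at this

theorem P_shift {r : ℕ} (hr : r < D.nroots) (hmoved : S.T.rho r ≠ r) (a : K) :
    S.P (S.T.rho r) ((S.T.sg r : K) * S.φ a) = S.P r a := by
  have hG := S.P_mem_G hr (a := a) fun h => absurd h hmoved
  have hmoved' : S.T.rho (S.T.rho r) ≠ S.T.rho r := fun h => hmoved
    (S.E.s.rh_inj (S.rho_lt hr) hr (by rw [S.rho_eq, S.rho_eq]; exact h))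
  rw [← show S.E.σ (S.P r a) = S.P r a from hG, P, P, map_list_prod, List.map_map,
    show S.T.orbSize (S.T.rho r) = S.T.orbSize r by simp [Dat.orbSize, hmoved, hmoved']]
  refine congrArg List.prod (List.map_congr_left fun j _ => ?_)
  rw [Function.comp_apply, ← Function.iterate_succ_apply' (⇑S.E.σ), Function.iterate_succ_apply,
    S.σ_x hr]

theorem par_shift {r r' : ℕ} (hr : r < D.nroots) (hr' : r' < D.nroots) (e : S.T.rho r = r')
    (hmoved : r' ≠ r) (hsg : S.T.sg r = 1 ∨ S.T.sg r = -1) {a : K} :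
    a ∈ S.par H hr ↔ S.φ a ∈ S.par H hr' := by
  subst e
  rw [← sign_mem (A := S.par H hr') hsg (a := S.φ a), mem_par, mem_par, P_shift hr hmoved]

/-- Scaling by fixed scalars, by a fixed root pairing to `±1`. -/
theorem par_smul (hrat : S.rat ≤ H) {b r : ℕ} (hb : b < D.nroots) (hr : r < D.nroots)
    (hbf : S.T.rho b = b) (hbf' : S.T.rho (D.neg b) = D.neg b)
    (hpair : Chevalley.pairingSum D b r = 1 ∨ Chevalley.pairingSum D b r = -1) {l a : K}
    (hl : S.φ l = l) (ha : a ∈ S.par H hr) : l * a ∈ S.par H hr := by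
  by_cases hl0 : l = 0
  · rw [hl0, zero_mul]; exact zero_mem _
  suffices key : ∀ c : Kˣ, S.φ (c : K) = c →
      ((c ^ Chevalley.pairingSum D b r : Kˣ) : K) * a ∈ S.par H hr by
    rcases hpair with h | h
    · have := key (Units.mk0 l hl0) hl
      simpa [h] using this
    · have := key (Units.mk0 l hl0)⁻¹ (by simp [map_inv₀, hl])
      simpa [h] using this
  intro c hc
  have hx : ∀ u : K, S.φ u = u → Q.sys.x b u ∈ S.rat := fun u hu => by
    have := S.P_mem_rat hb hu
    rwa [S.P_fixed_root hbf] at this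
  have hy : ∀ u : K, S.φ u = u → Q.sys.x (D.neg b) u ∈ S.rat := fun u hu => by
    have := S.P_mem_rat (Q.K.neg_lt hb) hu
    rwa [S.P_fixed_root hbf'] at this
  have hn : ∀ u : K, S.φ u = u → Twist.nUG Q b u ∈ S.rat := fun u hu => by
    rw [Twist.nUG_eq]
    exact mul_mem (mul_mem (hx u hu) (hy _ (by rw [map_neg, map_inv₀, hu]))) (hx u hu)
  set h := Twist.hUG Q b (c : K)
  have hh : h ∈ S.rat := by
    show Twist.hUG Q b (c : K) ∈ S.rat
    rw [Twist.hUG_eq]
    exact mul_mem (hn _ hc) (hn _ (by rw [map_neg, map_one]))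
  have he : h * S.P r a * h⁻¹ =
      S.P r (((c ^ Chevalley.pairingSum D b r : Kˣ) : K) * a) := by
    rw [← MulAut.conj_apply, P, map_list_prod, List.map_map, P]
    refine congrArg List.prod (List.map_congr_left fun j _ => ?_)
    have hj : ∀ (j : ℕ) (y : ↥(D.group K)), h * (⇑S.E.σ)^[j] y * h⁻¹ =
        (⇑S.E.σ)^[j] (h * y * h⁻¹) := by
      intro j
      induction j with
      | zero => intro y; rfl
      | succ j ih =>
        intro y
        rw [Function.iterate_succ_apply', Function.iterate_succ_apply', ← ih]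
        simp only [map_mul, map_inv, show S.E.σ h = h from hh.1]
    rw [Function.comp_apply, MulAut.conj_apply, hj]
    congr 1
    exact Subtype.ext (Q.K.hU_conj_xU K hb hr c a)
  rw [mem_par, ← he]
  exact mul_mem (mul_mem (hrat hh) ha) (inv_mem (hrat hh))

variable (S)

/-- Either no further elements, or an irrational parameter at the last orbit. -/
theorem le_rat_or_par {L : List (ℕ × ℕ × ℕ)} {term : ℕ} (hC : Dat.Climb D S.T L term)
    (ht : term < D.nroots) (hrat : S.rat ≤ H) (hG : H ≤ S.G) :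
    H = S.rat ∨ ∃ a, S.φ a ≠ a ∧ a ∈ S.par H ht := by
  by_cases h : ∀ u ∈ Q.sys.U, u ∈ H → u ∈ S.rat
  · exact Or.inl (le_antisymm (Emb.le_rat ⟨hrat, hG, h⟩) hrat)
  · push Not at h
    obtain ⟨u, hu, huH, hn⟩ := h
    exact Or.inr (S.exists_pure hC hrat hG hu huH hn)

/-- Not every fixed element is rational. -/
theorem rat_ne_G {r : ℕ} (hr : r < D.nroots) (hp : D.nroots / 2 ≤ r)
    (hmin : ∀ j < S.T.m, r ≤ S.T.rho^[j] r) (hmoved : S.T.rho r ≠ r) {a : K}
    (ha : S.φ a ≠ a) : S.P r a ∈ S.G ∧ S.P r a ∉ S.rat := by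
  refine ⟨S.P_mem_G hr fun h => absurd h hmoved, fun h => ha ?_⟩
  have h1 : S.fr (S.P r a) = S.P r a := h.2
  rw [S.fr_P, S.P_split r (S.φ a), S.P_split r a] at h1
  exact (Q.sys.toUnip.head_unique Q.sys.toUnip.closed_P (PC.mem_P Q hr hp)
    (S.P_rest hr hp hmin _) (S.P_rest hr hp hmin _) h1).1

end Setup

end Cfsg.Agent.H51.Tw
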