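import Cfsg.Agent.H51.TwMax.Gen
import Cfsg.Agent.H51.TwMax.CertD4
import Cfsg.Agent.H37.Twist.D4

/-!
`G₂(q)` is maximal in `³D₄(q)`.
-/

set_option autoImplicit false
set_option maxRecDepth 100000

namespace Cfsg.Agent.H51.Tw.D4

open Cfsg.Lie Cfsg.Agent.H37 Cfsg.Agent.H37.RootSys Cfsg.Agent.H37.NormalForm
open Cfsg.Agent.H37.Twist.D4 (QD endo fold)

variable {K : Type*} [Field K] {φ : K →+* K} {q : ℕ}

theorem gen (w : (QD K).X.M.Group) (hw : (endo φ).s.tau w = w) :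
    w ∈ Subgroup.closure (Weyl.wOf (QD K).X.M '' {x | x ∈ datD4.ws}) := by
  obtain ⟨a, rfl⟩ := ((fold φ).ι_range w).1 hw
  have ha : a ∈ Subgroup.closure (Set.range (fold φ).gens) := by
    rw [(fold φ).closure_gens]; trivial
  have h := Subgroup.mem_map_of_mem (fold φ).ι ha
  rw [MonoidHom.map_closure] at h
  refine Subgroup.closure_mono ?_ h
  rintro _ ⟨_, ⟨j, rfl⟩, rfl⟩
  refine ⟨H37.Fold.dataD4.word j.val, ?_, (Twist.D4.ι_gen φ j).symm⟩
  exact (show ∀ j : Fin 2, H37.Fold.dataD4.word j.val ∈ datD4.ws by decide +kernel) j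

variable [Fintype K]

theorem word_mem (hφ : ∀ t, φ t = t ^ q) (hK : Fintype.card K = q ^ 3) (wd : List ℕ)
    (hwd : wd ∈ datD4.ws) : nW (QD K) wd ∈ fixedPts (endo φ).σ := by
  rw [mem_fixedPts]
  refine Twist.D4.le_fixed hφ hK _ ?_
  obtain ⟨s0, s1, s2, s3⟩ := Twist.D4.simple_ok
  have h1 : (1 : K) ^ q = 1 := one_pow q
  have e : nW (QD K) wd =
      (wd.map fun i => Twist.nUG (QD K) (chevD4.simple i) 1).prod := rfl
  rw [e]
  simp only [datD4, List.mem_cons, List.not_mem_nil, or_false] at hwd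
  rcases hwd with rfl | rfl <;>
    simp only [List.map_cons, List.map_nil, List.prod_cons, List.prod_nil, mul_one, s0, s1, s2, s3]
  · have := Twist.D4.tripleN_mem (q := q) hφ (1 : K)
    rw [h1, h1, mul_assoc] at this
    exact this
  · exact (Twist.D4.nh_single_mem hφ h1).1

/-- The setting. -/
noncomputable def setup (hφ : ∀ t, φ t = t ^ q) (hK : Fintype.card K = q ^ 3) : Setup (QD K) where
  E := endo φ
  φ := φ
  T := datD4
  good := goodD4
  sup := Chev.sup_of_check Chev.supB_D4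
  cf_eq _ _ _ _ := rfl
  rho_eq _ := rfl
  f_eq _ _ _ := rfl
  φ_pow t := by
    show (⇑φ)^[3] t = t
    simp only [Function.iterate_succ_apply', Function.iterate_zero_apply, hφ]
    exact Twist.D4.pow_three_card hK t
  gen := gen
  word_mem := word_mem hφ hK

theorem cj1 {r s c : ℕ} {C : ℤ} (h : r < chevD4.nroots ∧ s < chevD4.nroots ∧ s ≠ r ∧
    s ≠ chevD4.neg r ∧ chevD4.commTerms r s = [(c, C, 1, 1)]) (t u : K) :
    ((QD K).sys.x r t)⁻¹ * (QD K).sys.x s u * (QD K).sys.x r t =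
      (QD K).sys.x s u * (QD K).sys.x c ((C : K) * -t * u) := by
  obtain ⟨h1, h2, h3, h4, h5⟩ := h
  have e := comm_word (Q := QD K) h1 h2 h3 h4 t u
  rw [h5] at e
  simp only [List.map_cons, List.map_nil, List.prod_cons, List.prod_nil, mul_one, pow_one] at e
  rw [mul_assoc, e]; group

theorem cj0 {r s : ℕ} (h : r < chevD4.nroots ∧ s < chevD4.nroots ∧ s ≠ r ∧
    s ≠ chevD4.neg r ∧ chevD4.commTerms r s = []) (t u : K) :
    (QD K).sys.x s u * (QD K).sys.x r t = (QD K).sys.x r t * (QD K).sys.x s u := by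
  obtain ⟨h1, h2, h3, h4, h5⟩ := h
  have e := comm_word (Q := QD K) h1 h2 h3 h4 t u
  rw [h5] at e
  simpa using e

theorem cjm {G : Type*} [Group G] (a p p' : G) :
    a⁻¹ * (p * p') * a = (a⁻¹ * p * a) * (a⁻¹ * p' * a) := by group

/-- The commutator of the fixed simple root and a moved simple orbit. -/
theorem cm_calc (c c1 c2 : K) :
    Setup.cm ((QD K).sys.x 14 1)
        ((QD K).sys.x 12 c * (QD K).sys.x 18 c1 * (QD K).sys.x 13 c2) =
      (QD K).sys.x 15 (-c) * (QD K).sys.x 19 c1 * (QD K).sys.x 16 (-c2) *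
        ((QD K).sys.x 17 (c * c2) * ((QD K).sys.x 21 (-(c1 * c2)) * (QD K).sys.x 23 (c * c1 * c2) *
          (QD K).sys.x 20 (-(c * c1)) * (QD K).sys.x 22 (c * c1 * c2))) := by
  set x := (QD K).sys.x with hx
  set y := x 14 (1 : K) with hy
  have a1 : (x 12 c)⁻¹ * y * x 12 c = y * x 15 (-c) := by
    rw [hy, hx, cj1 (c := 15) (C := 1) (by decide +kernel)]; congr 2; push_cast; ring
  have a2 : (x 18 c1)⁻¹ * y * x 18 c1 = y * x 19 c1 := by
    rw [hy, hx, cj1 (c := 19) (C := -1) (by decide +kernel)]; congr 2; push_cast; ring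
  have a3 : (x 18 c1)⁻¹ * x 15 (-c) * x 18 c1 = x 15 (-c) * x 20 (-(c * c1)) := by
    rw [hx, cj1 (c := 20) (C := -1) (by decide +kernel)]; congr 2; push_cast; ring
  have b1 : (x 13 c2)⁻¹ * y * x 13 c2 = y * x 16 (-c2) := by
    rw [hy, hx, cj1 (c := 16) (C := 1) (by decide +kernel)]; congr 2; push_cast; ring
  have b2 : (x 13 c2)⁻¹ * x 19 c1 * x 13 c2 = x 19 c1 * x 21 (-(c1 * c2)) := by
    rw [hx, cj1 (c := 21) (C := 1) (by decide +kernel)]; congr 2; push_cast; ring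
  have b3 : (x 13 c2)⁻¹ * x 15 (-c) * x 13 c2 = x 15 (-c) * x 17 (c * c2) := by
    rw [hx, cj1 (c := 17) (C := 1) (by decide +kernel)]; congr 2; push_cast; ring
  have b4 : (x 13 c2)⁻¹ * x 20 (-(c * c1)) * x 13 c2 =
      x 20 (-(c * c1)) * x 22 (c * c1 * c2) := by
    rw [hx, cj1 (c := 22) (C := 1) (by decide +kernel)]; congr 2; push_cast; ring
  have d1 : x 21 (-(c1 * c2)) * x 15 (-c) =
      x 15 (-c) * (x 21 (-(c1 * c2)) * x 23 (c * c1 * c2)) := by
    have := cj1 (K := K) (r := 15) (s := 21) (c := 23) (C := -1) (by decide +kernel) (-c)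
      (-(c1 * c2))
    rw [show ((-1 : ℤ) : K) * -(-c) * -(c1 * c2) = c * c1 * c2 by push_cast; ring] at this
    rw [hx, ← this]; group
  have d2 : x 16 (-c2) * x 19 c1 * x 15 (-c) = x 15 (-c) * x 19 c1 * x 16 (-c2) := by
    rw [hx, cj0 (r := 19) (s := 16) (by decide +kernel), mul_assoc,
      cj0 (r := 15) (s := 16) (by decide +kernel), ← mul_assoc,
      cj0 (r := 15) (s := 19) (by decide +kernel)]
  have d3 : x 21 (-(c1 * c2)) * x 23 (c * c1 * c2) * x 17 (c * c2) =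
      x 17 (c * c2) * (x 21 (-(c1 * c2)) * x 23 (c * c1 * c2)) := by
    rw [hx, mul_assoc, cj0 (r := 17) (s := 23) (by decide +kernel), ← mul_assoc,
      cj0 (r := 17) (s := 21) (by decide +kernel), mul_assoc]
  calc Setup.cm y (x 12 c * x 18 c1 * x 13 c2)
      = y⁻¹ * ((x 13 c2)⁻¹ * ((x 18 c1)⁻¹ * ((x 12 c)⁻¹ * y * x 12 c) * x 18 c1) * x 13 c2) := by
        rw [Setup.cm]; group
    _ = y⁻¹ * (y * x 16 (-c2) * (x 19 c1 * x 21 (-(c1 * c2))) *
          ((x 15 (-c) * x 17 (c * c2)) * (x 20 (-(c * c1)) * x 22 (c * c1 * c2)))) := by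
        rw [a1, cjm (x 18 c1), a2, a3]
        simp only [cjm, b1, b2, b3, b4]
    _ = x 16 (-c2) * x 19 c1 * (x 21 (-(c1 * c2)) * x 15 (-c)) * x 17 (c * c2) *
          (x 20 (-(c * c1)) * x 22 (c * c1 * c2)) := by group
    _ = (x 16 (-c2) * x 19 c1 * x 15 (-c)) *
          (x 21 (-(c1 * c2)) * x 23 (c * c1 * c2) * x 17 (c * c2)) *
          (x 20 (-(c * c1)) * x 22 (c * c1 * c2)) := by rw [d1]; group
    _ = _ := by rw [d2, d3]; group

theorem P3 (hφ : ∀ t, φ t = t ^ q) (hK : Fintype.card K = q ^ 3) {r s u : ℕ}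
    (hr : r < chevD4.nroots) (hrs : datD4.rho r = s) (hsu : datD4.rho s = u) (hne : s ≠ r)
    (t : K) :
    (setup hφ hK).P r t = (QD K).sys.x r t * (QD K).sys.x s ((datD4.sg r : K) * φ t) *
      (QD K).sys.x u ((datD4.sg s : K) * φ ((datD4.sg r : K) * φ t)) := by
  subst hrs hsu
  have ho : (setup hφ hK).T.orbSize r = 3 := by
    show datD4.orbSize r = 3
    rw [Dat.orbSize, if_neg hne]; rfl
  rw [Setup.P, ho]
  show ((List.range 3).map fun j => (⇑(endo φ).σ)^[j] ((QD K).sys.x r t)).prod = _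
  rw [show List.range 3 = [0, 1, 2] from rfl]
  simp only [List.map_cons, List.map_nil, List.prod_cons, List.prod_nil, mul_one,
    Function.iterate_succ_apply', Function.iterate_zero_apply]
  have h := (setup hφ hK).σ_x hr t
  have h' := (setup hφ hK).σ_x ((setup hφ hK).rho_lt hr) ((datD4.sg r : K) * φ t)
  change (endo φ).σ ((QD K).sys.x r t) = _ at h
  change (endo φ).σ ((QD K).sys.x (datD4.rho r) _) = _ at h'
  rw [h]
  rw [show (setup hφ hK).T.rho r = datD4.rho r from rfl,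
    show ((setup hφ hK).T.sg r : K) * (setup hφ hK).φ t = (datD4.sg r : K) * φ t from rfl, h',
    mul_assoc]
  rfl

theorem P12_eq (hφ : ∀ t, φ t = t ^ q) (hK : Fintype.card K = q ^ 3) (t : K) :
    (setup hφ hK).P 12 t = (QD K).sys.x 12 t * (QD K).sys.x 18 (φ t) *
      (QD K).sys.x 13 (φ (φ t)) := by
  obtain ⟨h1, h2, h3, h4⟩ : datD4.rho 12 = 18 ∧ datD4.rho 18 = 13 ∧ datD4.sg 12 = 1 ∧
      datD4.sg 18 = 1 := by decide +kernel
  rw [P3 hφ hK (by decide +kernel) h1 h2 (by decide), h3, h4]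
  simp

theorem P15_eq (hφ : ∀ t, φ t = t ^ q) (hK : Fintype.card K = q ^ 3) (t : K) :
    (setup hφ hK).P 15 t = (QD K).sys.x 15 t * (QD K).sys.x 19 (-φ t) *
      (QD K).sys.x 16 (φ (φ t)) := by
  obtain ⟨h1, h2, h3, h4⟩ : datD4.rho 15 = 19 ∧ datD4.rho 19 = 16 ∧ datD4.sg 15 = -1 ∧
      datD4.sg 19 = -1 := by decide +kernel
  rw [P3 hφ hK (by decide +kernel) h1 h2 (by decide), h3, h4]
  simp

theorem words_ok : (∀ x ∈ [0, 1], x < datD4.ws.length) ∧
    Dat.act chevD4 [0, 2, 3] 21 = 15 ∧ Dat.act chevD4 [1] 15 = 12 ∧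
    Dat.act chevD4 [0, 2, 3] 18 = 5 ∧
    [0, 2, 3] ∈ datD4.ws ∧ [1] ∈ datD4.ws := by decide +kernel

theorem shift_ok : datD4.rho 17 = 20 ∧ datD4.rho 20 = 21 ∧ datD4.rho 12 = 18 ∧
    (datD4.sg 17 = 1 ∨ datD4.sg 17 = -1) ∧ (datD4.sg 20 = 1 ∨ datD4.sg 20 = -1) ∧
    (datD4.sg 12 = 1 ∨ datD4.sg 12 = -1) := by decide +kernel

theorem fix_ok : datD4.rho 14 = 14 ∧ datD4.rho (chevD4.neg 14) = chevD4.neg 14 ∧
    (Chevalley.pairingSum chevD4 14 12 = 1 ∨ Chevalley.pairingSum chevD4 14 12 = -1) := by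
  decide +kernel

theorem SB_ok : Dat.SB chevD4 datD4 17 17 ∧
    (∀ r ∈ [21, 23, 20, 22], Dat.SB chevD4 datD4 17 r ∧ 17 < r) ∧
    ∀ r < chevD4.nroots, Dat.SB chevD4 datD4 18 r → datD4.rho r = r := by decide +kernel

theorem bounds : 5 < chevD4.nroots ∧ 12 < chevD4.nroots ∧ 14 < chevD4.nroots ∧
    15 < chevD4.nroots ∧ 17 < chevD4.nroots ∧ 18 < chevD4.nroots ∧ 20 < chevD4.nroots ∧
    21 < chevD4.nroots ∧ chevD4.nroots / 2 ≤ 12 := by decide +kernel

/-- The key step: products of conjugates of a parameter at the moved simple orbit. -/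
theorem par_mul (hφ : ∀ t, φ t = t ^ q) (hK : Fintype.card K = q ^ 3)
    {H : Subgroup ↥(chevD4.group K)} (hrat : (setup hφ hK).rat ≤ H)
    (hG : H ≤ (setup hφ hK).G) {c : K}
    (hc : c ∈ (setup hφ hK).par H bounds.2.1) :
    φ c * φ (φ c) ∈ (setup hφ hK).par H bounds.2.1 := by
  set S := setup hφ hK with hS
  obtain ⟨b5, b12, b14, b15, b17, b18, b20, b21, bh⟩ := bounds
  obtain ⟨hw01, w1, w2, w3, m0, m1⟩ := words_ok
  obtain ⟨r17, r20, r12, g17, g20, g12⟩ := shift_ok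
  have hφ3 : ∀ t, φ (φ (φ t)) = t := fun t => by
    simp only [hφ]; exact Twist.D4.pow_three_card hK t
  have h15 : c ∈ S.par H b15 := (Setup.par_word hrat (show [1] ∈ S.T.ws from m1) b15 b12 w2).2 hc
  have hy : (QD K).sys.x 14 (1 : K) ∈ H := by
    have := S.P_mem_rat b14 (map_one S.φ)
    rw [S.P_fixed_root (show S.T.rho 14 = 14 from fix_ok.1)] at this
    exact hrat this
  have hg : S.P 12 c ∈ H := hc
  set v := Setup.cm ((QD K).sys.x 14 (1 : K)) (S.P 12 c) with hv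
  have hvH : v ∈ H := mul_mem (mul_mem (mul_mem (inv_mem hy) (inv_mem hg)) hy) hg
  set w := (S.P 15 (-c))⁻¹ * v with hw
  have hwH : w ∈ H := mul_mem (inv_mem (neg_mem h15 : -c ∈ S.par H b15)) hvH
  set d := c * φ (φ c)
  set n := (QD K).sys.x 21 (-(φ c * φ (φ c))) * (QD K).sys.x 23 (c * φ c * φ (φ c)) *
    (QD K).sys.x 20 (-(c * φ c)) * (QD K).sys.x 22 (c * φ c * φ (φ c))
  have hwe : w = (QD K).sys.x 17 d * n := by
    rw [hw, hv, hS, P12_eq, P15_eq, cm_calc]
    simp only [map_neg, neg_neg]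
    exact inv_mul_cancel_left _ _
  obtain ⟨sb17, sbN, sb18⟩ := SB_ok
  have hkk : 17 ∈ S.SBs 17 := S.mem_SBs.2 sb17
  have hn : n ∈ XS (QD K).sys.x {r | r ∈ S.SBs 17 ∧ 17 < r} :=
    mul_mem (mul_mem (mul_mem
      (x_mem_XS (S := {r | r ∈ S.SBs 17 ∧ 17 < r})
        ⟨S.mem_SBs.2 (sbN 21 (by simp)).1, (sbN 21 (by simp)).2⟩ _)
      (x_mem_XS (S := {r | r ∈ S.SBs 17 ∧ 17 < r})
        ⟨S.mem_SBs.2 (sbN 23 (by simp)).1, (sbN 23 (by simp)).2⟩ _))
      (x_mem_XS (S := {r | r ∈ S.SBs 17 ∧ 17 < r})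
        ⟨S.mem_SBs.2 (sbN 20 (by simp)).1, (sbN 20 (by simp)).2⟩ _))
      (x_mem_XS (S := {r | r ∈ S.SBs 17 ∧ 17 < r})
        ⟨S.mem_SBs.2 (sbN 22 (by simp)).1, (sbN 22 (by simp)).2⟩ _)
  have hwS : w ∈ XS (QD K).sys.x (↑(S.SBs 17) : Set ℕ) := by
    rw [hwe]
    exact mul_mem (x_mem_XS (Finset.mem_coe.2 hkk) _)
      (XS_mono (S' := (↑(S.SBs 17) : Set ℕ)) (fun r hr => Finset.mem_coe.2 hr.1) hn)
  obtain ⟨a, hok, hrest⟩ := S.strip hkk (hG hwH) hwS
  have hPG := S.P_mem_G b17 hok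
  have hr := S.rat_of_all_fixed chevD4.nroots (17 + 1) (by omega)
    (fun r hr => sb18 r (S.mem_SBs.1 hr).1.1 (S.mem_SBs.1 hr)) _ hrest
    (mul_mem (inv_mem hPG) (hG hwH))
  have haH : S.P 17 a ∈ H := by
    have h1 := mul_mem hwH (inv_mem (hrat hr))
    rwa [mul_inv_rev, inv_inv, mul_inv_cancel_left] at h1
  have hd : d = a := by
    have hmin : ∀ j < S.T.m, 17 ≤ S.T.rho^[j] 17 := sb17.2
    set p := ((List.range (S.T.orbSize 17 - 1)).map fun j =>
      (⇑S.E.σ)^[j + 1] ((QD K).sys.x 17 a)).prod * ((S.P 17 a)⁻¹ * w) with hp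
    have hp17 : p ∈ XS (QD K).sys.x {r | r ∈ S.SBs 17 ∧ 17 < r} := by
      refine mul_mem ?_ ?_
      · refine Subgroup.list_prod_mem _ fun z hz => ?_
        obtain ⟨j, hj, rfl⟩ := List.mem_map.1 hz
        rw [List.mem_range] at hj
        rw [S.σ_iter_x b17]
        refine x_mem_XS (S := {r | r ∈ S.SBs 17 ∧ 17 < r}) ?_ _
        have hj' : j + 1 < 3 := by
          have : S.T.orbSize 17 = 3 := by
            show datD4.orbSize 17 = 3
            rw [Dat.orbSize, if_neg (by rw [r17]; decide)]; rfl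
          omega
        have key : ∀ i < 3, 0 < i →
            Dat.SB chevD4 datD4 17 (datD4.rho^[i] 17) ∧ 17 < datD4.rho^[i] 17 := by
          decide +kernel
        exact ⟨S.mem_SBs.2 (key _ hj' (by omega)).1, (key _ hj' (by omega)).2⟩
      · refine XS_mono (fun r hr => ?_) hrest
        have := S.SBs_ge (Finset.mem_coe.1 hr)
        refine ⟨S.mem_SBs.2 ⟨(S.mem_SBs.1 (Finset.mem_coe.1 hr)).1, fun j hj => ?_⟩, by omega⟩
        have := (S.mem_SBs.1 (Finset.mem_coe.1 hr)).2 j hj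
        omega
    have e : (QD K).sys.x 17 a * p = (QD K).sys.x 17 d * n := by
      rw [← hwe, hp, ← mul_assoc, ← S.P_split 17 a, mul_inv_cancel_left]
    exact ((QD K).sys.toUnip.head_unique (S.closed_SBs 17) hkk hp17 hn e).1.symm
  have h17 : d ∈ S.par H b17 := hd ▸ haH
  have h20 : φ d ∈ S.par H b20 :=
    (Setup.par_shift b17 b20 (show S.T.rho 17 = 20 from r17) (by decide) g17).1 h17
  have h21 : φ (φ d) ∈ S.par H b21 :=
    (Setup.par_shift b20 b21 (show S.T.rho 20 = 21 from r20) (by decide) g20).1 h20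
  have e : φ (φ d) = φ c * φ (φ c) := by
    simp only [d, map_mul, hφ3]; ring
  rw [e] at h21
  exact (Setup.par_word hrat (show [1] ∈ S.T.ws from m1) b15 b12 w2).1
    ((Setup.par_word hrat (show [0, 2, 3] ∈ S.T.ws from m0) b21 b15 w1).1 h21)

/-- A subgroup of the field closed under scalars containing `1`, `c` and the product of the
conjugates of `c` is everything. -/
theorem all_mem (hφ : ∀ t, φ t = t ^ q) (hK : Fintype.card K = q ^ 3) (A : AddSubgroup K)
    (h1 : ∀ l, φ l = l → l ∈ A) (hs : ∀ l a, φ l = l → a ∈ A → l * a ∈ A) {c : K}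
    (hc : φ c ≠ c) (hcA : c ∈ A) (hd : φ c * φ (φ c) ∈ A) (x : K) : x ∈ A := by
  have hφ3 : ∀ t, φ (φ (φ t)) = t := fun t => by
    simp only [hφ]; exact Twist.D4.pow_three_card hK t
  set F := {t : K // t ^ q = t}
  have hF : ∀ t : F, φ t.1 = t.1 := fun t => (hφ _).trans t.2
  let ψ : F × F × F → K := fun p => p.1.1 + p.2.1.1 * c + p.2.2.1 * (φ c * φ (φ c))
  have hψ : Function.Injective ψ := by
    rintro ⟨a, b, e⟩ ⟨a', b', e'⟩ h
    simp only [ψ] at h
    have key : ∀ a b e : K, φ a = a → φ b = b → φ e = e →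
        a + b * c + e * (φ c * φ (φ c)) = 0 → a = 0 ∧ b = 0 ∧ e = 0 := by
      intro a b e ha hb he h
      set N := c * φ c * φ (φ c) with hN
      have hp : e * N + a * c + b * c ^ 2 = 0 := by rw [hN]; linear_combination c * h
      have hNf : φ N = N := by rw [hN, map_mul, map_mul, hφ3]; ring
      have hp1 : e * N + a * φ c + b * (φ c) ^ 2 = 0 := by
        simpa [map_add, map_mul, map_pow, ha, hb, he, hNf] using congrArg φ hp
      have hp2 : e * N + a * φ (φ c) + b * (φ (φ c)) ^ 2 = 0 := by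
        simpa [map_add, map_mul, map_pow, ha, hb, he, hNf] using congrArg φ hp1
      have n01 : c - φ c ≠ 0 := sub_ne_zero.2 (Ne.symm hc)
      have n02 : c - φ (φ c) ≠ 0 := sub_ne_zero.2 fun h => hc (by
        have := congrArg φ h; rwa [hφ3] at this)
      have n12 : φ c - φ (φ c) ≠ 0 := sub_ne_zero.2 fun h =>
        hc (φ.injective h).symm
      have q1 : a + b * (c + φ c) = 0 :=
        (mul_eq_zero.1 (show (c - φ c) * (a + b * (c + φ c)) = 0 by
          linear_combination hp - hp1)).resolve_left n01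
      have q2 : a + b * (c + φ (φ c)) = 0 :=
        (mul_eq_zero.1 (show (c - φ (φ c)) * (a + b * (c + φ (φ c))) = 0 by
          linear_combination hp - hp2)).resolve_left n02
      have hb0 : b = 0 :=
        (mul_eq_zero.1 (show b * (φ c - φ (φ c)) = 0 by linear_combination q1 - q2)).resolve_right
          n12
      have ha0 : a = 0 := by linear_combination q1 - (c + φ c) * hb0
      have hc0 : c ≠ 0 := fun h => hc (by rw [h, map_zero])
      have hN0 : N ≠ 0 := mul_ne_zero (mul_ne_zero hc0 (by simpa using hc0)) (by simpa using hc0)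
      have he0 : e * N = 0 := by linear_combination hp - c * ha0 - c ^ 2 * hb0
      exact ⟨ha0, hb0, (mul_eq_zero.1 he0).resolve_right hN0⟩
    obtain ⟨k1, k2, k3⟩ := key (a.1 - a'.1) (b.1 - b'.1) (e.1 - e'.1)
      (by rw [map_sub, hF, hF]) (by rw [map_sub, hF, hF]) (by rw [map_sub, hF, hF])
      (by linear_combination h)
    exact Prod.ext (Subtype.ext (sub_eq_zero.1 k1))
      (Prod.ext (Subtype.ext (sub_eq_zero.1 k2)) (Subtype.ext (sub_eq_zero.1 k3)))
  have hcard : Nat.card K ≤ Nat.card (F × F × F) := by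
    have hq := Twist.D4.two_le hK
    rw [Nat.card_prod, Nat.card_prod, (Twist.card_pow_eq_self hq (Twist.D4.sub_dvd hK)).2,
      Nat.card_eq_fintype_card, hK]
    exact le_of_eq (by ring)
  obtain ⟨⟨a, b, e⟩, rfl⟩ := (hψ.bijective_of_nat_card_le hcard).2 x
  exact add_mem (add_mem (h1 _ (hF a)) (hs _ _ (hF b) hcA)) (hs _ _ (hF e) hd)

/-- The dichotomy. -/
theorem dichotomy (hφ : ∀ t, φ t = t ^ q) (hK : Fintype.card K = q ^ 3)
    (H : Subgroup ↥(chevD4.group K)) (hrat : (setup hφ hK).rat ≤ H)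
    (hG : H ≤ (setup hφ hK).G) :
    H = (setup hφ hK).rat ∨
      ∀ g : ↥(chevD4.group K), (g : GL chevD4.Idx K) ∈ twistedD4 K q → g ∈ H := by
  set S := setup hφ hK with hS
  obtain ⟨b5, b12, b14, b15, b17, b18, b20, b21, bh⟩ := bounds
  obtain ⟨hw01, w1, w2, w3, m0, m1⟩ := words_ok
  obtain ⟨r17, r20, r12, g17, g20, g12⟩ := shift_ok
  rcases S.le_rat_or_par climbD4 b17 hrat hG with h | ⟨a, ha, haP⟩
  · exact Or.inl h
  right
  have hφ3 : ∀ t, φ (φ (φ t)) = t := fun t => by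
    simp only [hφ]; exact Twist.D4.pow_three_card hK t
  have h20 : φ a ∈ S.par H b20 :=
    (Setup.par_shift b17 b20 (show S.T.rho 17 = 20 from r17) (by decide) g17).1 haP
  have h21 : φ (φ a) ∈ S.par H b21 :=
    (Setup.par_shift b20 b21 (show S.T.rho 20 = 21 from r20) (by decide) g20).1 h20
  set c := φ (φ a) with hc
  have hcA : c ∈ S.par H b12 := (Setup.par_word hrat (show [1] ∈ S.T.ws from m1) b15 b12 w2).1
    ((Setup.par_word hrat (show [0, 2, 3] ∈ S.T.ws from m0) b21 b15 w1).1 h21)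
  have hc' : φ c ≠ c := fun e => ha (by
    rw [hc, hφ3] at e
    exact (congrArg φ e).trans (hφ3 a))
  have hall : ∀ x : K, x ∈ S.par H b12 := all_mem hφ hK (S.par H b12)
    (fun l hl => Setup.par_fixed hrat b12 (show S.φ l = l from hl))
    (fun l a hl ha => Setup.par_smul hrat b14 b12 fix_ok.1 fix_ok.2.1 fix_ok.2.2
      (show S.φ l = l from hl) ha)
    hc' hcA (par_mul hφ hK hrat hG hcA)
  have h18 : ∀ x : K, x ∈ S.par H b18 := fun x => by
    have := (Setup.par_shift b12 b18 (show S.T.rho 12 = 18 from r12) (by decide) g12).1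
      (hall (φ (φ x)))
    rwa [show S.φ (φ (φ x)) = x from hφ3 x] at this
  have h5 : ∀ x : K, x ∈ S.par H b5 := fun x =>
    (Setup.par_word hrat (show [0, 2, 3] ∈ S.T.ws from m0) b18 b5 w3).1 (h18 x)
  intro g hg
  have hle : twistedD4 K q ≤ H.map (chevD4.group K).subtype := by
    refine (Subgroup.closure_le _).2 ?_
    rintro x ⟨w, hw, hx⟩
    refine ⟨(w.map fun p => (QD K).sys.x p.1 p.2).prod, ?_, ?_⟩
    · rcases hw with ⟨t, ht, r, hr, rfl⟩ | ⟨t, rs, hrs, rfl⟩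
      · simp only [List.map_cons, List.map_nil, List.prod_cons, List.prod_nil, mul_one]
        obtain ⟨hr1, hr2⟩ := (show ∀ r ∈ [d4p2, d4m2], r < chevD4.nroots ∧ datD4.rho r = r by
          decide +kernel) r hr
        have := S.P_mem_rat hr1 (show S.φ t = t from (hφ t).trans ht)
        rw [S.P_fixed_root hr2] at this
        exact hrat this
      · simp only [List.map_cons, List.map_nil, List.prod_cons, List.prod_nil, mul_one]
        rw [pow_two, pow_mul, ← hφ t, ← hφ (φ t), ← mul_assoc]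
        obtain ⟨e1, e2, e3, e4, e5, e6, e7, e8⟩ : datD4.rho 18 = 13 ∧ datD4.rho 13 = 12 ∧
            datD4.rho 5 = 10 ∧ datD4.rho 10 = 11 ∧ datD4.sg 18 = 1 ∧ datD4.sg 13 = 1 ∧
            datD4.sg 5 = 1 ∧ datD4.sg 10 = 1 := by decide +kernel
        simp only [List.mem_cons, List.not_mem_nil, or_false, d4p1, d4p3, d4p4, d4m1, d4m3,
          d4m4] at hrs
        rcases hrs with rfl | rfl
        · have := P3 hφ hK b18 e1 e2 (by decide) t
          simp only [e5, e6, Int.cast_one, one_mul] at this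
          rw [← this]
          exact h18 t
        · have := P3 hφ hK b5 e3 e4 (by decide) t
          simp only [e7, e8, Int.cast_one, one_mul] at this
          rw [← this]
          exact h5 t
    · refine Units.ext ?_
      show (((w.map fun p => (QD K).sys.x p.1 p.2).prod : ↥(chevD4.group K)) :
        GL chevD4.Idx K).val = _
      rw [Subgroup.val_list_prod, List.map_map, hx, ← (QD K).K.coe_wU K w]
      rfl
  obtain ⟨g', hg', e⟩ := hle hg
  rwa [← Subtype.ext (a1 := g') (a2 := g) e]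

theorem maximal (hq : IsPrimePow q) (hK : Fintype.card K = q ^ 3)
    (M : Subgroup (GL chevD4.Idx K))
    (hM : ∀ g : GL chevD4.Idx K, g ∈ M ↔ g ∈ twistedD4 K q ∧ ∀ i j : chevD4.Idx,
      ((g : Matrix chevD4.Idx chevD4.Idx K) i j) ^ q = (g : Matrix chevD4.Idx chevD4.Idx K) i j) :
    M ≠ twistedD4 K q ∧
      ∀ H : Subgroup (GL chevD4.Idx K), M ≤ H → H ≤ twistedD4 K q → H = M ∨ H = twistedD4 K q := by
  obtain ⟨φ, hφ⟩ := Twist.exists_powHom (m := 3) hq hK
  set S := setup hφ hK with hS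
  have hG : ∀ g : ↥(chevD4.group K), g ∈ S.G ↔ (g : GL chevD4.Idx K) ∈ twistedD4 K q := by
    intro g
    have h := (Twist.D4.model hφ hK).fixed_eq
    rw [show S.G = fixedPts (endo φ).σ from rfl, ← h]
    exact Subgroup.mem_subgroupOf
  have hmem : ∀ g : ↥(chevD4.group K), g ∈ S.rat ↔ (g : GL chevD4.Idx K) ∈ M := by
    intro g
    rw [hM]
    constructor
    · intro h
      refine ⟨(hG g).1 h.1, fun i j => ?_⟩
      have h' := congrArg
        (fun z : ↥(chevD4.group K) => ((z : GL chevD4.Idx K) : Matrix _ _ K) i j) h.2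
      rw [← hφ]
      exact h'
    · rintro ⟨h1, h2⟩
      refine ⟨(hG g).2 h1, ?_⟩
      refine Subtype.ext (Units.ext (Matrix.ext fun i j => ?_))
      show φ ((((g : GL chevD4.Idx K) : Matrix _ _ K)) i j) = _
      rw [hφ]
      exact h2 i j
  have hq2 : 2 ≤ q := hq.two_le
  have hne : ∃ a, φ a ≠ a := by
    by_contra hcon
    push Not at hcon
    have h1 := (Twist.card_pow_eq_self hq2 (Twist.D4.sub_dvd hK)).2
    rw [Nat.card_congr (Equiv.subtypeUnivEquiv fun t => by rw [← hφ]; exact hcon t),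
      Nat.card_eq_fintype_card, hK] at h1
    nlinarith [Nat.mul_le_mul hq2 hq2]
  constructor
  · intro hMG
    obtain ⟨a, ha⟩ := hne
    have h12 : 12 < chevD4.nroots ∧ chevD4.nroots / 2 ≤ 12 ∧
        (∀ j < datD4.m, 12 ≤ datD4.rho^[j] 12) ∧ datD4.rho 12 ≠ 12 := by decide +kernel
    obtain ⟨h1, h2⟩ := S.rat_ne_G h12.1 h12.2.1 h12.2.2.1 h12.2.2.2 (a := a) ha
    exact h2 ((hmem _).2 (hMG ▸ (hG _).1 h1))
  · intro H hMH hHG
    rcases dichotomy hφ hK (H.subgroupOf (chevD4.group K))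
      (fun g hg => Subgroup.mem_subgroupOf.2 (hMH ((hmem g).1 hg)))
      (fun g hg => (hG g).2 (hHG (Subgroup.mem_subgroupOf.1 hg))) with h | h
    · left
      refine le_antisymm (fun g hg => ?_) hMH
      have h1 : (⟨g, Twist.D4.twisted_le (hHG hg)⟩ : ↥(chevD4.group K)) ∈
          H.subgroupOf (chevD4.group K) := Subgroup.mem_subgroupOf.2 hg
      rw [h] at h1
      exact (hmem _).1 h1
    · exact Or.inr (le_antisymm hHG fun g hg =>
        Subgroup.mem_subgroupOf.1 (h ⟨g, Twist.D4.twisted_le hg⟩ hg))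

end Cfsg.Agent.H51.Tw.D4
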