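import Cfsg.Agent.H51.TwMax.Gen
import Cfsg.Agent.H51.TwMax.CertE6
import Cfsg.Agent.H37.Twist.E6

/-!
`F₄(q)` is maximal in `²E₆(q)`.
-/

set_option autoImplicit false
set_option maxRecDepth 100000

namespace Cfsg.Agent.H51.Tw.E6

open Cfsg.Lie Cfsg.Agent.H37 Cfsg.Agent.H37.RootSys Cfsg.Agent.H37.NormalForm
open Cfsg.Agent.H37.Twist.E6 (QE endo fold)

variable {K : Type*} [Field K] [Fintype K] {φ : K →+* K} {q : ℕ}

theorem gen (w : (QE K).X.M.Group) (hw : (endo φ).s.tau w = w) :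
    w ∈ Subgroup.closure (Weyl.wOf (QE K).X.M '' {x | x ∈ datE6.ws}) := by
  obtain ⟨a, rfl⟩ := ((fold φ).ι_range w).1 hw
  have ha : a ∈ Subgroup.closure (Set.range (fold φ).gens) := by
    rw [(fold φ).closure_gens]; trivial
  have h := Subgroup.mem_map_of_mem (fold φ).ι ha
  rw [MonoidHom.map_closure] at h
  refine Subgroup.closure_mono ?_ h
  rintro _ ⟨_, ⟨j, rfl⟩, rfl⟩
  refine ⟨H37.Fold.dataE6.word j.val, ?_, (Twist.E6.ι_gen φ j).symm⟩
  exact (show ∀ j : Fin 4, H37.Fold.dataE6.word j.val ∈ datE6.ws by decide +kernel) j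

theorem word_mem (hφ : ∀ t, φ t = t ^ q) (hK : Fintype.card K = q ^ 2) (wd : List ℕ)
    (hwd : wd ∈ datE6.ws) : nW (QE K) wd ∈ fixedPts (endo φ).σ := by
  rw [mem_fixedPts]
  refine Twist.E6.le_fixed hφ hK _ ?_
  obtain ⟨n1, n2, n3, n4, n5, n6⟩ := Twist.E6.neg_ok
  obtain ⟨s0, s1, s2, s3, s4, s5⟩ := Twist.E6.simple_ok
  have h1 : (1 : K) ^ q = 1 := one_pow q
  have e : nW (QE K) wd =
      (wd.map fun i => Twist.nUG (QE K) (chevE6.simple i) 1).prod := rfl
  rw [e]
  simp only [datE6, List.mem_cons, List.not_mem_nil, or_false] at hwd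
  rcases hwd with rfl | rfl | rfl | rfl <;>
    simp only [List.map_cons, List.map_nil, List.prod_cons, List.prod_nil, mul_one, s0, s1, s2, s3,
      s4, s5]
  · have := (Twist.E6.nh_pair_mem hφ (r := 56) (s := 36) (by decide) (by decide) n1 n2
      Twist.E6.orth_ok.1 (1 : K)).1
    rwa [h1] at this
  · have := (Twist.E6.nh_pair_mem hφ (r := 42) (s := 37) (by decide) (by decide) n3 n4
      Twist.E6.orth_ok.2 (1 : K)).1
    rwa [h1] at this
  · exact (Twist.E6.nh_single_mem hφ (r := 39) (by decide) (by decide) n5 h1).1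
  · exact (Twist.E6.nh_single_mem hφ (r := 46) (by decide) (by decide) n6 h1).1

/-- The setting. -/
noncomputable def setup (hφ : ∀ t, φ t = t ^ q) (hK : Fintype.card K = q ^ 2) : Setup (QE K) where
  E := endo φ
  φ := φ
  T := datE6
  good := goodE6
  sup := Chev.sup_of_check Chev.supB_E6
  cf_eq _ _ _ _ := rfl
  rho_eq _ := rfl
  f_eq _ _ _ := rfl
  φ_pow t := by
    show (⇑φ)^[2] t = t
    simp only [Function.iterate_succ_apply', Function.iterate_zero_apply, hφ]
    exact Twist.E6.pow_two_card hK t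
  gen := gen
  word_mem := word_mem hφ hK

theorem pairs_ok : Chevalley.pairingSum chevE6 60 66 = 1 ∨
    Chevalley.pairingSum chevE6 60 66 = -1 := by decide +kernel

theorem fix_roots_ok : datE6.rho 60 = 60 ∧ datE6.rho (chevE6.neg 60) = chevE6.neg 60 := by
  decide +kernel

theorem paths_ok : ∀ r ∈ [56, 15, 42, 29], ∃ L ∈ [[0, 1, 0, 2, 1, 3, 2, 1],
    [0, 1, 0, 2, 1, 3, 2, 1, 0], [0, 1, 0, 2, 1, 0, 3, 2], [0, 1, 0, 2, 1, 0, 3, 2, 1]],
    (∀ j ∈ L, j < datE6.ws.length) ∧
      L.foldl (fun x j => Dat.act chevE6 (datE6.ws.getD j []) x) 66 = r ∧ r < chevE6.nroots := by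
  decide +kernel

theorem pairs_spec : ∀ rs ∈ [(e6p1, e6p6), (e6m1, e6m6), (e6p3, e6p5), (e6m3, e6m5)],
    rs.1 ∈ [56, 15, 42, 29] ∧ rs.1 < chevE6.nroots ∧ datE6.rho rs.1 = rs.2 ∧ rs.2 ≠ rs.1 ∧
      datE6.sg rs.1 = 1 := by decide +kernel

theorem singles_spec : ∀ r ∈ [e6p2, e6m2, e6p4, e6m4],
    r < chevE6.nroots ∧ datE6.rho r = r := by decide +kernel

theorem P_pair (hφ : ∀ t, φ t = t ^ q) (hK : Fintype.card K = q ^ 2) {r s : ℕ}
    (hr : r < chevE6.nroots) (hrs : datE6.rho r = s) (hne : s ≠ r) (hsg : datE6.sg r = 1) (t : K) :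
    (setup hφ hK).P r t = (QE K).sys.x r t * (QE K).sys.x s (t ^ q) := by
  subst hrs
  have ho : (setup hφ hK).T.orbSize r = 2 := by
    show datE6.orbSize r = 2
    rw [Dat.orbSize, if_neg hne]; rfl
  rw [Setup.P, ho]
  show ((List.range 2).map fun j => (⇑(endo φ).σ)^[j] ((QE K).sys.x r t)).prod = _
  rw [show List.range 2 = [0, 1] from rfl]
  simp only [List.map_cons, List.map_nil, List.prod_cons, List.prod_nil, mul_one,
    Function.iterate_zero_apply, Function.iterate_one]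
  congr 1
  have h := (setup hφ hK).σ_x hr t
  rw [show (setup hφ hK).T.sg r = 1 from hsg, Int.cast_one, one_mul] at h
  rw [← hφ]
  exact h

/-- The dichotomy. -/
theorem dichotomy (hφ : ∀ t, φ t = t ^ q) (hK : Fintype.card K = q ^ 2)
    (H : Subgroup ↥(chevE6.group K)) (hrat : (setup hφ hK).rat ≤ H)
    (hG : H ≤ (setup hφ hK).G) :
    H = (setup hφ hK).rat ∨
      ∀ g : ↥(chevE6.group K), (g : GL chevE6.Idx K) ∈ twistedE6 K q → g ∈ H := by
  set S := setup hφ hK with hS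
  have h66 : 66 < chevE6.nroots := by decide +kernel
  rcases S.le_rat_or_par climbE6 h66 hrat hG with h | ⟨a, ha, haP⟩
  · exact Or.inl h
  right
  have hφ2 : ∀ t, φ (φ t) = t := fun t => by
    simp only [hφ]; exact Twist.E6.pow_two_card hK t
  have hall : ∀ x : K, x ∈ S.par H h66 := by
    intro x
    have hd : a - φ a ≠ 0 := sub_ne_zero.2 (Ne.symm ha)
    set β := (x - φ x) / (a - φ a) with hβ
    have hβf : φ β = β := by
      rw [hβ, map_div₀, map_sub, map_sub, hφ2, hφ2, ← neg_sub x, ← neg_sub a, neg_div_neg_eq]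
    have hαf : φ (x - β * a) = x - β * a := by
      rw [map_sub, map_mul, hβf]
      have : β * (a - φ a) = x - φ x := by rw [hβ, div_mul_cancel₀ _ hd]
      linear_combination this
    have h1 : β * a ∈ S.par H h66 := Setup.par_smul hrat (by decide +kernel : 60 < chevE6.nroots)
      h66 fix_roots_ok.1 fix_roots_ok.2 pairs_ok (show S.φ β = β from hβf) haP
    have h2 : x - β * a ∈ S.par H h66 := Setup.par_fixed hrat h66 (show S.φ _ = _ from hαf)
    simpa using add_mem h2 h1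
  have hroot : ∀ r ∈ [56, 15, 42, 29], ∀ (hr : r < chevE6.nroots) (t : K),
      t ∈ S.par H hr := by
    intro r hr hr' t
    obtain ⟨L, -, hL, e, -⟩ := paths_ok r hr
    exact (Setup.par_words hrat L h66 hr' hL e).1 (hall t)
  intro g hg
  have hle : twistedE6 K q ≤ H.map (chevE6.group K).subtype := by
    refine (Subgroup.closure_le _).2 ?_
    rintro x ⟨w, hw, hx⟩
    refine ⟨(w.map fun p => (QE K).sys.x p.1 p.2).prod, ?_, ?_⟩
    · rcases hw with ⟨t, ht, r, hr, rfl⟩ | ⟨t, rs, hrs, rfl⟩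
      · simp only [List.map_cons, List.map_nil, List.prod_cons, List.prod_nil, mul_one]
        obtain ⟨hr1, hr2⟩ := singles_spec r hr
        have := S.P_mem_rat hr1 (show S.φ t = t from (hφ t).trans ht)
        rw [S.P_fixed_root hr2] at this
        exact hrat this
      · simp only [List.map_cons, List.map_nil, List.prod_cons, List.prod_nil, mul_one]
        obtain ⟨h1, h2, h3, h4, h5⟩ := pairs_spec rs hrs
        rw [← P_pair hφ hK h2 h3 h4 h5]
        exact hroot rs.1 h1 h2 t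
    · refine Units.ext ?_
      show (((w.map fun p => (QE K).sys.x p.1 p.2).prod : ↥(chevE6.group K)) :
        GL chevE6.Idx K).val = _
      rw [Subgroup.val_list_prod, List.map_map, hx, ← (QE K).K.coe_wU K w]
      rfl
  obtain ⟨g', hg', e⟩ := hle hg
  rwa [← Subtype.ext (a1 := g') (a2 := g) e]

theorem maximal (hq : IsPrimePow q) (hK : Fintype.card K = q ^ 2)
    (M : Subgroup (GL chevE6.Idx K))
    (hM : ∀ g : GL chevE6.Idx K, g ∈ M ↔ g ∈ twistedE6 K q ∧ ∀ i j : chevE6.Idx,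
      ((g : Matrix chevE6.Idx chevE6.Idx K) i j) ^ q = (g : Matrix chevE6.Idx chevE6.Idx K) i j) :
    M ≠ twistedE6 K q ∧
      ∀ H : Subgroup (GL chevE6.Idx K), M ≤ H → H ≤ twistedE6 K q → H = M ∨ H = twistedE6 K q := by
  obtain ⟨φ, hφ⟩ := Twist.exists_powHom hq hK
  set S := setup hφ hK with hS
  have hG : ∀ g : ↥(chevE6.group K), g ∈ S.G ↔ (g : GL chevE6.Idx K) ∈ twistedE6 K q := by
    intro g
    have h := (Twist.E6.model hφ hK).fixed_eq
    rw [show S.G = fixedPts (endo φ).σ from rfl, ← h]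
    exact Subgroup.mem_subgroupOf
  have hmem : ∀ g : ↥(chevE6.group K), g ∈ S.rat ↔ (g : GL chevE6.Idx K) ∈ M := by
    intro g
    rw [hM]
    constructor
    · intro h
      refine ⟨(hG g).1 h.1, fun i j => ?_⟩
      have h' := congrArg
        (fun z : ↥(chevE6.group K) => ((z : GL chevE6.Idx K) : Matrix _ _ K) i j) h.2
      rw [← hφ]
      exact h'
    · rintro ⟨h1, h2⟩
      refine ⟨(hG g).2 h1, ?_⟩
      refine Subtype.ext (Units.ext (Matrix.ext fun i j => ?_))
      show φ ((((g : GL chevE6.Idx K) : Matrix _ _ K)) i j) = _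
      rw [hφ]
      exact h2 i j
  have hq2 : 2 ≤ q := hq.two_le
  have hne : ∃ a, φ a ≠ a := by
    by_contra hcon
    push Not at hcon
    have hd : q - 1 ∣ Fintype.card K - 1 := by
      rw [hK]; simpa using Nat.sub_dvd_pow_sub_pow q 1 2
    have h1 := (Twist.card_pow_eq_self hq2 hd).2
    rw [Nat.card_congr (Equiv.subtypeUnivEquiv fun t => by rw [← hφ]; exact hcon t),
      Nat.card_eq_fintype_card, hK] at h1
    nlinarith
  constructor
  · intro hMG
    obtain ⟨a, ha⟩ := hne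
    have h36 : 36 < chevE6.nroots ∧ chevE6.nroots / 2 ≤ 36 ∧
        (∀ j < datE6.m, 36 ≤ datE6.rho^[j] 36) ∧ datE6.rho 36 ≠ 36 := by decide +kernel
    obtain ⟨h1, h2⟩ := S.rat_ne_G h36.1 h36.2.1 h36.2.2.1 h36.2.2.2 (a := a) ha
    exact h2 ((hmem _).2 (hMG ▸ (hG _).1 h1))
  · intro H hMH hHG
    rcases dichotomy hφ hK (H.subgroupOf (chevE6.group K))
      (fun g hg => Subgroup.mem_subgroupOf.2 (hMH ((hmem g).1 hg)))
      (fun g hg => (hG g).2 (hHG (Subgroup.mem_subgroupOf.1 hg))) with h | h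
    · left
      refine le_antisymm (fun g hg => ?_) hMH
      have h1 : (⟨g, Twist.E6.twisted_le (hHG hg)⟩ : ↥(chevE6.group K)) ∈
          H.subgroupOf (chevE6.group K) := Subgroup.mem_subgroupOf.2 hg
      rw [h] at h1
      exact (hmem _).1 h1
    · exact Or.inr (le_antisymm hHG fun g hg =>
        Subgroup.mem_subgroupOf.1 (h ⟨g, Twist.E6.twisted_le hg⟩ hg))

end Cfsg.Agent.H51.Tw.E6
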