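import Cfsg.Agent.H51.TwMax.Basic
import Cfsg.Agent.H51.SubMax.Rational
import Cfsg.Agent.H37.Twist.Torus

/-!
The stabiliser of the highest root subgroup meets a subgroup with no further unipotent elements
in rational points.
-/

set_option autoImplicit false

namespace Cfsg.Agent.H51.Tw

open Cfsg.Lie Cfsg.Agent.H37 Cfsg.Agent.H37.RootSys Cfsg.Agent.H37.NormalForm

variable {D : ChevalleyDatum} {K : Type*} [Field K] {Q : Chev.Data D K}

namespace Setup

variable (S : Setup Q)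

/-- The nodes of the Levi subgroup. -/
def J : Set ℕ := {i | i ≠ S.T.i0}

/-- The roots of the radical. -/
noncomputable def SS : Finset ℕ := Sub.outJ Q S.J

theorem mem_SS {r : ℕ} : r ∈ S.SS ↔ Dat.InS D S.T r := by
  rw [SS, Sub.mem_outJ]
  constructor
  · rintro ⟨h1, h2, h3⟩
    refine ⟨⟨h1, h2⟩, fun h0 => h3 fun m hm hmJ => ?_⟩
    obtain rfl : m = S.T.i0 := not_not.1 hmJ
    rw [S.cf_eq r h1 _ hm]; exact h0
  · rintro ⟨⟨h1, h2⟩, h3⟩
    exact ⟨h1, h2, fun h => h3 (by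
      rw [← S.cf_eq r h1 _ S.good.base.2.2.2.1]
      exact h _ S.good.base.2.2.2.1 (fun hJ => hJ rfl))⟩

include S in
theorem top_lt : Dat.top D < D.nroots := S.good.base.1.1.1

include S in
theorem top_succ : Dat.top D + 1 = D.nroots := by
  have := S.top_lt; unfold Dat.top at *; omega

theorem hom_rho {w : Q.X.M.Group} (hw : S.E.s.tau w = w) {r : ℕ} (hr : r < D.nroots) :
    img Q w (S.T.rho r) = S.T.rho (img Q w r) := by
  have h1 := (S.E.s.tau_eq_iff w).1 hw ⟨r, hr⟩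
  rw [← img_of_lt Q w (Fin.isLt _), Twist.Sigma.perm_val, ← img_of_lt Q w hr, S.rho_eq,
    S.rho_eq] at h1
  exact h1

theorem iter_pos {r : ℕ} (hr : r < D.nroots) : ∀ j,
    D.nroots / 2 ≤ S.T.rho^[j] r ↔ D.nroots / 2 ≤ r
  | 0 => Iff.rfl
  | j + 1 => by
      rw [Function.iterate_succ_apply', S.rho_pos (S.iter_lt hr j), iter_pos hr j]

theorem hom_iter {w : Q.X.M.Group} (hw : S.E.s.tau w = w) {r : ℕ} (hr : r < D.nroots) : ∀ j,
    img Q w (S.T.rho^[j] r) = S.T.rho^[j] (img Q w r)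
  | 0 => rfl
  | j + 1 => by
      rw [Function.iterate_succ_apply', Function.iterate_succ_apply',
        S.hom_rho hw (S.iter_lt hr j), hom_iter hw hr j]

theorem rho_SS {r : ℕ} (hr : r ∈ S.SS) : S.T.rho r ∈ S.SS := by
  obtain ⟨⟨h1, h2⟩, h3⟩ := S.mem_SS.1 hr
  exact S.mem_SS.2 ⟨⟨S.rho_lt h1, (S.rho_pos h1).2 h2⟩, by rwa [S.good.rho_i0 r h1]⟩

theorem iter_SS {r : ℕ} (hr : r ∈ S.SS) : ∀ j, S.T.rho^[j] r ∈ S.SS
  | 0 => hr
  | j + 1 => by rw [Function.iterate_succ_apply']; exact S.rho_SS (iter_SS hr j)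

include S in
theorem ht_phi (q : Fin D.nroots) : CoW.phi Q (fun _ => 1) q = (S.T.ht D q : ℝ) := by
  rw [CoW.phi, Dat.ht, Chevalley.list_sum_range_map, Int.cast_sum,
    ← Fin.sum_univ_eq_sum_range (fun m => ((S.T.cf q m : ℤ) : ℝ))]
  exact Finset.sum_congr rfl fun m _ => by rw [one_mul, S.cf_eq q q.isLt m m.isLt]

include S in
theorem ht_neg {q : Fin D.nroots} (hq : q.val < D.nroots / 2) :
    CoW.phi Q (fun _ => 1) q ≤ -1 := by
  have h := CoW.phi_neg Q (fun _ => 1) q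
  have h2 : D.nroots / 2 ≤ (Fin.rev q).val := by
    have := Q.K.two_half
    rw [Fin.val_rev]; omega
  have h3 : (1 : ℝ) ≤ CoW.phi Q (fun _ => 1) (Fin.rev q) := by
    rw [S.ht_phi]; exact_mod_cast S.good.ht_pos _ (Fin.rev q).isLt h2
  linarith

/-- The stabiliser of the highest root in the Weyl group is the Levi one. -/
theorem stab_spec (w : Q.X.M.Group) (hw : img Q w (Dat.top D) = Dat.top D) :
    (∀ r ∈ S.SS, img Q w r ∈ S.SS) ∧
      ((Q.sys.rep w : ↥(D.group K)) : GL D.Idx K) ∈ D.parabolicSubgroup K S.J := by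
  induction hN : Q.X.good.inv w using Nat.strong_induction_on generalizing w with
  | _ N ih =>
    subst hN
    by_cases h1 : w = 1
    · subst h1
      refine ⟨fun r hr => ?_, ?_⟩
      · rw [img_of_lt Q _ (S.mem_SS.1 hr).1.1, map_one]; exact hr
      · rw [Q.sys.rep_one]; exact one_mem _
    obtain ⟨i, hi, hneg⟩ := Q.X.good.exists_descent h1
    have hi' : i < D.rank := Q.rank_eq.symm ▸ hi
    have hs := (Q.K.simple_lt i hi').1
    have hij : i ≠ S.T.i0 := by
      intro e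
      set μ := D.reflectRoot i (Dat.top D) with hμ
      have hμw : μ = Q.K.w i (Dat.top D) := by rw [hμ, Q.K.w_reflect i hi' _ S.top_lt]
      have hμlt : μ < D.nroots := hμw ▸ (Q.K.w_lt i hi' _ S.top_lt).1
      have hL := CoW.lin_hom Q (CoW.lin_phi Q fun _ => (1 : ℝ)) w
      have hT := congrFun hL ⟨Dat.top D, S.top_lt⟩
      have hM := congrFun hL ⟨μ, hμlt⟩
      have hwT : Q.X.good.hom w ⟨Dat.top D, S.top_lt⟩ = ⟨Dat.top D, S.top_lt⟩ :=
        Fin.ext (by rw [← img_of_lt Q w S.top_lt, hw])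
      simp only [hwT] at hT
      rw [S.ht_phi] at hT
      simp only [CoW.phi] at hM hT
      have hcf : ∀ m : Fin D.rank, (Q.K.cf μ m : ℝ) = (Q.K.cf (Dat.top D) m : ℝ) -
          if (m : ℕ) = i then (D.cartan i (Dat.top D) : ℝ) else 0 := fun m => by
        rw [hμw, Q.K.cf_w i hi' _ S.top_lt m m.isLt]
        split_ifs <;> push_cast <;> ring
      simp only [hcf, mul_sub, Finset.sum_sub_distrib] at hM
      rw [← hT, Finset.sum_eq_single (a := (⟨i, hi'⟩ : Fin D.rank))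
        (f := fun m : Fin D.rank => _ * if (m : ℕ) = i then (D.cartan i (Dat.top D) : ℝ) else 0)
        (fun k _ hk => by simp [show (k : ℕ) ≠ i from fun h => hk (Fin.ext h)]) (by simp),
        if_pos rfl] at hM
      have h2 : (S.T.ht D (Q.X.good.hom w ⟨μ, hμlt⟩).val : ℝ) ≤ (S.T.ht D (Dat.top D) : ℝ) := by
        exact_mod_cast S.good.top_max _ (Fin.isLt _)
      rw [← S.ht_phi] at h2
      simp only [CoW.phi] at h2
      have h3 := S.ht_neg (q := Q.X.good.hom w ⟨D.simple i, hs⟩) hneg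
      simp only [CoW.phi] at h3
      have h4 : (1 : ℝ) ≤ (D.cartan i (Dat.top D) : ℝ) := by
        rw [e]; exact_mod_cast S.good.cart
      simp only [CoW.sroot] at hM
      nlinarith
    obtain ⟨hfix, hpres⟩ := S.good.dom i hi' hij
    set s := Weyl.gen Q.X.M i with hs'
    have hsv : ∀ r, r < D.nroots → img Q s r = D.reflectRoot i r := fun r hr => by
      rw [img_of_lt Q s hr, Q.X.good.hom_gen_val hi, (Q.X.good.sigma_spec hi hr).2.1]
    have himg : ∀ r, r < D.nroots → img Q w r = img Q (w * s) (D.reflectRoot i r) := by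
      intro r hr
      have hlt : D.reflectRoot i r < D.nroots := hsv r hr ▸ img_lt Q s hr
      have hback : img Q s (img Q s r) = r := by
        conv_lhs => rw [show img Q s (img Q s r) = img Q s⁻¹ (img Q s r) by rw [hs', Weyl.gen_inv]]
        exact img_inv hr
      rw [← hsv r hr] at hlt ⊢
      rw [img_of_lt Q (w * s) hlt, map_mul, Equiv.Perm.mul_apply, img_of_lt Q w hr]
      congr 3
      show r = (Q.X.good.hom s ⟨_, hlt⟩).val
      rw [← img_of_lt Q s hlt]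
      exact hback.symm
    have hlt := Q.X.good.inv_mul_gen_neg hi hneg
    have hw' : img Q (w * s) (Dat.top D) = Dat.top D := by
      conv_lhs => rw [← hfix]
      rw [← himg _ S.top_lt, hw]
    obtain ⟨ihS, ihP⟩ := ih _ (show Q.X.good.inv (w * s) < Q.X.good.inv w by rw [hs']; omega) (w * s) hw' rfl
    refine ⟨fun r hr => ?_, ?_⟩
    · have hr' := S.mem_SS.1 hr
      rw [himg r hr'.1.1]
      exact ihS _ (S.mem_SS.2 (hpres r hr'.1.1 hr'))
    · obtain ⟨l, hl, e⟩ := Q.sys.rep_mul (w * s) s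
      rw [mul_assoc, hs', Weyl.gen_mul_self, mul_one] at e
      obtain ⟨k, hk, e'⟩ := nW_rep (Q := Q) (wd := [i]) (by simpa using hi')
      rw [Weyl.wOf_singleton, show nW Q [i] = nG Q.K K i by simp [nW]] at e'
      have hnS : ((nG Q.K K i : ↥(D.group K)) : GL D.Idx K) ∈ D.parabolicSubgroup K S.J :=
        Subgroup.mem_sup_right (Subgroup.subset_closure ⟨i, hij, hi', Q.K.coe_nU K _ _⟩)
      have hH : ∀ z ∈ Q.sys.H,
          ((z : ↥(D.group K)) : GL D.Idx K) ∈ D.parabolicSubgroup K S.J := fun z hz =>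
        Subgroup.mem_sup_left (Subgroup.mem_sup_right hz)
      have hrs : Q.sys.rep s = k⁻¹ * nG Q.K K i := by rw [e', hs']; group
      have hrw : Q.sys.rep w = l⁻¹ * (Q.sys.rep (w * s) * (k⁻¹ * nG Q.K K i)) := by
        rw [← hrs, hs', e]; group
      rw [hrw]
      simp only [Subgroup.coe_mul, Subgroup.coe_inv]
      exact mul_mem (inv_mem (hH l hl)) (mul_mem ihP (mul_mem (inv_mem (hH k hk)) hnS))

/-- The root elements of the highest root. -/
def Xt : Subgroup ↥(D.group K) where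
  carrier := Set.range (Q.sys.x (Dat.top D))
  one_mem' := ⟨0, Q.sys.x_zero' S.top_lt⟩
  mul_mem' := by
    rintro _ _ ⟨a, rfl⟩ ⟨b, rfl⟩
    exact ⟨a + b, Q.sys.x_add' _ S.top_lt a b⟩
  inv_mem' := by
    rintro _ ⟨a, rfl⟩
    exact ⟨-a, eq_inv_of_mul_eq_one_left (by
      rw [← Q.sys.x_add' _ S.top_lt, neg_add_cancel, Q.sys.x_zero' S.top_lt])⟩

/-- Its normaliser. -/
def Pt : Subgroup ↥(D.group K) := Subgroup.normalizer (S.Xt : Set ↥(D.group K))

theorem mem_Pt {g : ↥(D.group K)}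
    (h1 : ∀ t, g * Q.sys.x (Dat.top D) t * g⁻¹ ∈ S.Xt)
    (h2 : ∀ t, g⁻¹ * Q.sys.x (Dat.top D) t * g ∈ S.Xt) : g ∈ S.Pt := by
  rw [Pt, Subgroup.mem_normalizer_iff]
  refine fun y => ⟨fun ⟨t, e⟩ => e ▸ h1 t, fun ⟨t, e⟩ => ?_⟩
  have := h2 t
  rwa [e, show g⁻¹ * (g * y * g⁻¹) * g = y by group] at this

theorem x_mem_Pt {r : ℕ} (hr : r < D.nroots)
    (h : D.nroots / 2 ≤ r ∨ S.T.cf r S.T.i0 = 0) (a : K) : Q.sys.x r a ∈ S.Pt := by
  have hc : ∀ a t, Q.sys.x r a * Q.sys.x (Dat.top D) t = Q.sys.x (Dat.top D) t * Q.sys.x r a := by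
    intro a t
    by_cases hrt : r = Dat.top D
    · subst hrt; rw [← Q.sys.x_add' _ hr, ← Q.sys.x_add' _ hr, add_comm]
    · obtain ⟨h1, h2⟩ := S.good.stab r hr h hrt
      refine (comm_word (Q := Q) S.top_lt hr hrt h1 t a).trans ?_
      rw [h2, List.map_nil, List.prod_nil, mul_one]
  refine S.mem_Pt (fun t => ⟨t, ?_⟩) (fun t => ⟨t, ?_⟩)
  · rw [hc a t, mul_inv_cancel_right]
  · rw [mul_assoc, ← hc a t, inv_mul_cancel_left]

theorem U_le_Pt : Q.sys.U ≤ S.Pt := XS_le fun r hr t => by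
  obtain ⟨h1, h2⟩ := mem_posSet.1 hr
  exact S.x_mem_Pt h1 (Or.inl h2) t

theorem H_le_Pt : Q.sys.H ≤ S.Pt := fun h hh =>
  S.mem_Pt (fun t => by
    obtain ⟨t', e⟩ := Q.sys.h_conj h hh _ S.top_lt t
    exact ⟨t', e.symm⟩) (fun t => by
    obtain ⟨t', e⟩ := Q.sys.h_conj h⁻¹ (inv_mem hh) _ S.top_lt t
    rw [inv_inv] at e
    exact ⟨t', e.symm⟩)

theorem over_mem_Pt {w : Q.X.M.Group} {n : ↥(D.group K)}
    (hn : ∃ k ∈ Q.sys.H, n = k * Q.sys.rep w) (hw : img Q w (Dat.top D) = Dat.top D) :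
    n ∈ S.Pt := by
  refine S.mem_Pt (fun t => ?_) (fun t => ?_)
  · obtain ⟨t', -, e⟩ := conj_x hn S.top_lt t
    rw [hw] at e
    exact ⟨t', e.symm⟩
  · obtain ⟨t', -, e⟩ := conj_x (inv_over hn) S.top_lt t
    rw [inv_inv] at e
    have : img Q w⁻¹ (Dat.top D) = Dat.top D := by
      conv_lhs => rw [← hw]
      exact img_inv S.top_lt
    rw [this] at e
    exact ⟨t', e.symm⟩

include S in
theorem img_top_of_conj {g u h n v : ↥(D.group K)} {w : Q.X.M.Group} (hu : u ∈ Q.sys.U)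
    (hh : h ∈ Q.sys.H) (hn : ∃ k ∈ Q.sys.H, n = k * Q.sys.rep w) (hv : v ∈ Q.sys.U)
    (e : g = u * h * n * v) {a b : K} (ha : a ≠ 0)
    (hg : g * Q.sys.x (Dat.top D) a * g⁻¹ = Q.sys.x (Dat.top D) b) :
    img Q w (Dat.top D) = Dat.top D := by
  obtain ⟨k, hk, rfl⟩ := hn
  have hb : b ≠ 0 := fun h0 => ne_zero_x (Q := Q) S.top_lt ha ((conj_eq_one_iff (a := g)).1 (by
    rw [hg, h0, Q.sys.x_zero' S.top_lt]))
  have hcl : Q.sys.toUnip.Closed ({Dat.top D} : Finset ℕ) := by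
    refine ⟨fun r hr => ?_, fun r hr s hs hne => ?_⟩
    · rw [Finset.mem_singleton] at hr
      subst hr
      exact PC.mem_P Q S.top_lt S.good.base.1.1.2
    · rw [Finset.mem_singleton] at hr hs
      exact absurd (hr.trans hs.symm) hne
  obtain ⟨r, hr, -, er⟩ := exists_preimage Q hcl w (mul_mem hh hk)
    (g := Q.sys.x (Dat.top D) a)
    (x_mem_XS (Finset.mem_coe.2 (Finset.mem_singleton_self _)) a)
    S.top_lt S.good.base.1.1.2 hb (p := 1) (one_mem _) (by
      rw [mul_one]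
      have h1 := xG_comm_U Q S.top_succ hv a
      have h2 := xG_comm_U Q S.top_succ (inv_mem hu) b
      calc _ = u⁻¹ * (u * h * (k * Q.sys.rep w) * (v * Q.sys.x (Dat.top D) a) * v⁻¹ *
            (u * h * (k * Q.sys.rep w))⁻¹) * u := by rw [h1]; group
        _ = u⁻¹ * (g * Q.sys.x (Dat.top D) a * g⁻¹) * u := by rw [e]; group
        _ = _ := by rw [hg, h2, inv_mul_cancel_right])
  rw [Finset.mem_singleton] at hr
  rw [← hr]
  rw [hr] at er
  exact (congrArg (img Q w) hr.symm).symm.trans (hr ▸ er)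

omit S in
theorem raw_cell (g : ↥(D.group K)) : ∃ u ∈ Q.sys.U, ∃ t ∈ Q.sys.H, ∃ w n, ∃ v ∈ Q.sys.Uw w,
    (∃ k ∈ Q.sys.H, n = k * Q.sys.rep w) ∧ g = u * t * n * v := by
  obtain ⟨u, hu, h, hh, w, v, hv, e⟩ := Q.sys.normalForm.exists_eq g
  exact ⟨u, hu, h, hh, w, Q.sys.rep w, v, hv, ⟨1, one_mem _, (one_mul _).symm⟩, e⟩

theorem mem_Pt_of_conj {g : ↥(D.group K)} {a b : K} (ha : a ≠ 0)
    (h : g * Q.sys.x (Dat.top D) a * g⁻¹ = Q.sys.x (Dat.top D) b) : g ∈ S.Pt := by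
  obtain ⟨u, hu, t, ht, w, n, v, hv, hn, e⟩ := raw_cell g
  have hw := S.img_top_of_conj hu ht hn (Q.sys.Uw_le w hv) e ha h
  rw [e]
  exact mul_mem (mul_mem (mul_mem (S.U_le_Pt hu) (S.H_le_Pt ht)) (S.over_mem_Pt hn hw))
    (S.U_le_Pt (Q.sys.Uw_le w hv))

theorem cell_top {g u h n v : ↥(D.group K)} {w : Q.X.M.Group} (hu : u ∈ Q.sys.U)
    (hh : h ∈ Q.sys.H) (hn : ∃ k ∈ Q.sys.H, n = k * Q.sys.rep w) (hv : v ∈ Q.sys.U)
    (e : g = u * h * n * v) (hg : g ∈ S.Pt) : img Q w (Dat.top D) = Dat.top D := by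
  obtain ⟨b, hb⟩ := (Subgroup.mem_normalizer_iff.1 hg (Q.sys.x (Dat.top D) 1)).1 ⟨1, rfl⟩
  exact S.img_top_of_conj hu hh hn hv e one_ne_zero hb.symm

theorem Pt_le_parabolic {g : ↥(D.group K)} (hP : g ∈ S.Pt) :
    ((g : ↥(D.group K)) : GL D.Idx K) ∈ D.parabolicSubgroup K S.J := by
  obtain ⟨u, hu, t, ht, w, n, v, hv, hn, e⟩ := raw_cell g
  have hw := S.cell_top hu ht hn (Q.sys.Uw_le w hv) e hP
  obtain ⟨k, hk, rfl⟩ := hn
  have hU : ∀ z ∈ Q.sys.U, ((z : ↥(D.group K)) : GL D.Idx K) ∈ D.parabolicSubgroup K S.J := by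
    intro z hz
    refine coe_mem_of_XS Q.K (fun r hr t => ?_) hz
    obtain ⟨h1, h2⟩ := mem_posSet.1 hr
    exact Subgroup.mem_sup_left (Subgroup.mem_sup_left (Q.xU_mem_pos h1 h2 t))
  have hH : ∀ z ∈ Q.sys.H, ((z : ↥(D.group K)) : GL D.Idx K) ∈ D.parabolicSubgroup K S.J :=
    fun z hz => Subgroup.mem_sup_left (Subgroup.mem_sup_right hz)
  rw [e]
  simp only [Subgroup.coe_mul]
  exact mul_mem (mul_mem (mul_mem (hU u hu) (hH t ht))
    (mul_mem (hH k hk) (S.stab_spec w hw).2)) (hU v (Q.sys.Uw_le w hv))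

theorem conj_SS {g : ↥(D.group K)} (hP : g ∈ S.Pt) {y : ↥(D.group K)}
    (hy : y ∈ XS Q.sys.x (↑S.SS : Set ℕ)) : g * y * g⁻¹ ∈ XS Q.sys.x (↑S.SS : Set ℕ) := by
  obtain ⟨u, hu, t, ht, w, n, v, hv, hn, e⟩ := raw_cell g
  have hw := S.cell_top hu ht hn (Q.sys.Uw_le w hv) e hP
  have h1 := Sub.conj_outJ Q (Q.sys.Uw_le w hv) (g := y) hy
  have h2 : n * (v * y * v⁻¹) * n⁻¹ ∈ XS Q.sys.x (↑S.SS : Set ℕ) :=
    conj_mem_XS (fun r hr a => by
      obtain ⟨a', -, e'⟩ := conj_x hn (S.mem_SS.1 hr).1.1 a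
      rw [e']
      exact x_mem_XS (Finset.mem_coe.2 ((S.stab_spec w hw).1 r hr)) a') h1
  have h3 : t * (n * (v * y * v⁻¹) * n⁻¹) * t⁻¹ ∈ XS Q.sys.x (↑S.SS : Set ℕ) :=
    conj_mem_XS (fun r hr a => by
      obtain ⟨a', e'⟩ := Q.sys.h_conj t ht r (S.mem_SS.1 hr).1.1 a
      rw [e']
      exact x_mem_XS hr a') h2
  have h4 := Sub.conj_outJ Q hu h3
  rwa [show g * y * g⁻¹ = u * (t * (n * (v * y * v⁻¹) * n⁻¹) * t⁻¹) * u⁻¹ by rw [e]; group]

theorem P_mem_XS {A : Set ℕ} {r : ℕ} (hr : r < D.nroots)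
    (h : ∀ j < S.T.orbSize r, S.T.rho^[j] r ∈ A) (a : K) : S.P r a ∈ XS Q.sys.x A :=
  Subgroup.list_prod_mem _ fun z hz => by
    obtain ⟨j, hj, rfl⟩ := List.mem_map.1 hz
    rw [S.σ_iter_x hr]
    exact x_mem_XS (h j (List.mem_range.1 hj)) _

theorem orbSize_pos (r : ℕ) : 0 < S.T.orbSize r := by
  have := S.good.base.2.2.2.2.2
  unfold Dat.orbSize; split_ifs <;> omega

theorem P_split (r : ℕ) (a : K) : S.P r a = Q.sys.x r a *
    ((List.range (S.T.orbSize r - 1)).map fun j => (⇑S.E.σ)^[j + 1] (Q.sys.x r a)).prod := by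
  conv_lhs => rw [P, show S.T.orbSize r = (S.T.orbSize r - 1) + 1 by
    have := S.orbSize_pos r; omega]
  rw [prod_shift (fun j => (⇑S.E.σ)^[j] (Q.sys.x r a))]
  rfl

/-- The tail of an orbit lies above its least member. -/
theorem P_rest {r : ℕ} (hr : r < D.nroots) (hp : D.nroots / 2 ≤ r)
    (hmin : ∀ j < S.T.m, r ≤ S.T.rho^[j] r) (a : K) :
    ((List.range (S.T.orbSize r - 1)).map fun j => (⇑S.E.σ)^[j + 1] (Q.sys.x r a)).prod ∈
      XS Q.sys.x {q | q ∈ Q.sys.P ∧ r < q} :=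
  Subgroup.list_prod_mem _ fun z hz => by
    obtain ⟨j, hj, rfl⟩ := List.mem_map.1 hz
    rw [List.mem_range] at hj
    rw [S.σ_iter_x hr]
    refine x_mem_XS (S := {q | q ∈ Q.sys.P ∧ r < q}) ⟨PC.mem_P Q (S.iter_lt hr _) ((S.iter_pos hr _).2 hp), ?_⟩ _
    unfold Dat.orbSize at hj
    split_ifs at hj with h
    · exact absurd hj (by simp)
    · exact lt_of_le_of_ne (hmin _ (by omega))
        (S.good.orb_free r hr h (j + 1) (by omega) (by omega)).symm

/-- An element commuting with the rational elements of the radical is in `U`. -/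
theorem commute_mem_U {c : ↥(D.group K)} (hcG : c ∈ S.G)
    (hc : ∀ y ∈ S.rat, y ∈ XS Q.sys.x (↑S.SS : Set ℕ) → c * y = y * c) : c ∈ Q.sys.U := by
  classical
  obtain ⟨u, hu, t, ht, w, n, -, v, hv, hwτ, ⟨k, hk, hn⟩, huG, htG, -, e⟩ := S.decomp hcG
  subst hn
  set h := t * k with hh'
  have hh : h ∈ Q.sys.H := mul_mem ht hk
  have e : c = u * h * Q.sys.rep w * v := by rw [e, hh']; group
  have hvU := Q.sys.Uw_le w hv
  set FS := S.SS.filter fun r => S.T.rho r = r with hFS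
  have key : ∀ r ∈ FS, ∃ r' ∈ FS, r ≤ r' ∧ img Q w r' = r := by
    intro r hr
    obtain ⟨hrS, hfix⟩ := Finset.mem_filter.1 hr
    obtain ⟨⟨hr1, hr2⟩, -⟩ := S.mem_SS.1 hrS
    obtain ⟨m, hm, em, -⟩ := PC.conj_U Q hr1 hr2 (1 : K) hvU
    obtain ⟨m', hm', em', -⟩ := PC.conj_U Q hr1 hr2 (1 : K) (inv_mem hu)
    have hx : v * Q.sys.x r 1 * v⁻¹ ∈ XS Q.sys.x
        (↑(Sub.outJ Q S.J ∩ Q.sys.P.filter (r ≤ ·)) : Set ℕ) := by
      refine XS_inter Q.sys.toUnip (Sub.closed_outJ Q S.J) (CW.closed_from Q r)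
        (Sub.conj_outJ Q hvU (x_mem_XS (Finset.mem_coe.2 hrS) 1)) ?_
      rw [em]
      exact mul_mem (x_mem_XS (Finset.mem_coe.2 (Finset.mem_filter.2 ⟨PC.mem_P Q hr1 hr2, le_rfl⟩)) 1)
        (XS_mono (fun q hq => Finset.mem_coe.2 (Finset.mem_filter.2 ⟨hq.1, hq.2.le⟩)) hm)
    have hcr : c * Q.sys.x r 1 = Q.sys.x r 1 * c := by
      have h1 := hc _ (S.P_mem_rat hr1 (map_one S.φ)) (S.P_mem_XS hr1 (fun j hj => by
        exact Finset.mem_coe.2 (S.iter_SS hrS j)) 1)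
      rwa [S.P_fixed_root hfix] at h1
    obtain ⟨r', hr', -, e'⟩ := exists_preimage Q (closed_inter Q (Sub.closed_outJ Q S.J)
      (CW.closed_from Q r)) w hh hx hr1 hr2 one_ne_zero
      (XS_mono (fun q hq => (⟨Q.sys.P_eq ▸ hq.1, hq.2⟩ : q ∈ posSet D ∧ r < q)) hm')
      (show h * Q.sys.rep w * (v * Q.sys.x r 1 * v⁻¹) * (h * Q.sys.rep w)⁻¹ = Q.sys.x r 1 * m' by
        rw [← em', inv_inv]
        calc _ = u⁻¹ * (c * Q.sys.x r 1 * c⁻¹) * u := by rw [e]; group
          _ = _ := by rw [hcr, mul_inv_cancel_right])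
    obtain ⟨h1, h2⟩ := Finset.mem_inter.1 hr'
    have hlt := (S.mem_SS.1 h1).1.1
    refine ⟨r', Finset.mem_filter.2 ⟨h1, ?_⟩, (Finset.mem_filter.1 h2).2, e'⟩
    have := congrArg (img Q w⁻¹) (S.hom_rho hwτ hlt)
    rw [img_inv (S.rho_lt hlt), e', hfix, ← e', img_inv hlt] at this
    exact this
  choose f hf1 hf2 hf3 using key
  have hinj : Function.Injective fun r : {r // r ∈ FS} => f r.1 r.2 := fun a b hab => Subtype.ext (by
    have := congrArg (img Q w) hab
    simp only at this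
    rwa [hf3, hf3] at this)
  have hbij : ∑ r ∈ FS.attach, f r.1 r.2 = ∑ r ∈ FS.attach, r.1 := by
    have himg : FS.attach.image (fun r => f r.1 r.2) = FS := by
      refine Finset.eq_of_subset_of_card_le (fun q hq => ?_) (le_of_eq ?_)
      · obtain ⟨r, -, rfl⟩ := Finset.mem_image.1 hq
        exact hf1 _ _
      · rw [Finset.card_image_of_injective _ hinj, Finset.card_attach]
    conv_rhs => rw [Finset.sum_attach FS (fun r => r), ← himg]
    rw [Finset.sum_image fun a _ b _ hab => hinj hab]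
  have hfix : ∀ r ∈ FS, img Q w r = r := fun r hr => by
    have h1 := (Finset.sum_eq_sum_iff_of_le fun r (_ : r ∈ FS.attach) =>
      hf2 r.1 r.2).1 hbij.symm ⟨r, hr⟩ (Finset.mem_attach _ _)
    have h2 := hf3 r hr
    rwa [← h1] at h2
  have hw1 : w = 1 := by
    by_contra hw
    obtain ⟨i, hi, hneg⟩ := Q.X.good.exists_descent hw
    have hi' : i < D.rank := Q.rank_eq.symm ▸ hi
    obtain ⟨hs1, hs2⟩ := Q.K.simple_lt i hi'
    by_cases hi0 : i = S.T.i0
    · have hmem : D.simple i ∈ FS := Finset.mem_filter.2 ⟨S.mem_SS.2 ⟨⟨hs1, hs2⟩, by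
        rw [← S.cf_eq _ hs1 _ S.good.base.2.2.2.1, Q.K.cf_simple i hi' _ S.good.base.2.2.2.1,
          if_pos hi0.symm]
        exact one_ne_zero⟩, by rw [hi0]; exact S.good.base.2.2.1⟩
      have h1 := hfix _ hmem
      rw [img_of_lt Q w hs1] at h1
      omega
    obtain ⟨r, hr, r', hr', hrS, hr'S, hrf, hr'f, hht, hd⟩ := S.good.desc i hi' hi0
    have hL := CoW.lin_hom Q (CoW.lin_phi Q fun _ => (1 : ℝ)) w
    have hA : ∀ q (hq : q < D.nroots), q ∈ FS →
        (S.T.ht D q : ℝ) = ∑ m : Fin D.rank,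
          CoW.phi Q (fun _ => 1) (Q.X.good.hom w (CoW.sroot Q m)) * (Q.K.cf q m : ℝ) := by
      intro q hq hmem
      have h1 := congrFun hL ⟨q, hq⟩
      have h2 : Q.X.good.hom w ⟨q, hq⟩ = ⟨q, hq⟩ :=
        Fin.ext (by rw [← img_of_lt Q w hq, hfix q hmem])
      simp only [h2] at h1
      rw [S.ht_phi] at h1
      exact h1
    have h1 := hA r hr (Finset.mem_filter.2 ⟨S.mem_SS.2 hrS, hrf⟩)
    have h2 := hA r' hr' (Finset.mem_filter.2 ⟨S.mem_SS.2 hr'S, hr'f⟩)
    have h3 : (∑ m : Fin D.rank,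
        CoW.phi Q (fun _ => 1) (Q.X.good.hom w (CoW.sroot Q m)) * (Q.K.cf r' m : ℝ)) ≤
        ∑ m : Fin D.rank,
          CoW.phi Q (fun _ => 1) (Q.X.good.hom w (CoW.sroot Q m)) * (Q.K.cf r m : ℝ) := by
      refine Finset.sum_le_sum fun m _ => ?_
      rw [S.cf_eq r' hr' m m.isLt, S.cf_eq r hr m m.isLt]
      obtain ⟨hle, hor⟩ := hd m m.isLt
      rcases hor with heq | ⟨j, -, ej⟩
      · rw [heq]
      · have hm0 : CoW.phi Q (fun _ => 1) (Q.X.good.hom w (CoW.sroot Q m)) ≤ -1 := by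
          refine S.ht_neg ?_
          show (Q.X.good.hom w ⟨D.simple m, _⟩).val < _
          rw [← img_of_lt Q w, ← ej, S.hom_iter hwτ hs1]
          have h5 := (S.iter_pos (img_lt Q w hs1) j)
          rw [img_of_lt Q w hs1] at h5 ⊢
          by_contra hcon
          exact (Nat.not_le.2 hneg) (h5.1 (Nat.le_of_not_lt hcon))
        have : (S.T.cf r m : ℝ) ≤ (S.T.cf r' m : ℝ) := by exact_mod_cast hle
        nlinarith
    have h4 : (S.T.ht D r : ℝ) < (S.T.ht D r' : ℝ) := by exact_mod_cast hht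
    linarith
  subst hw1
  rw [Q.sys.Uw_one, Subgroup.mem_bot] at hv
  have e : c = u * h := by rw [e, hv, Q.sys.rep_one, mul_one, mul_one]
  have hhG : h ∈ S.G := by
    rw [show h = u⁻¹ * c by rw [e]; group]
    exact mul_mem (inv_mem huG) hcG
  obtain ⟨χ, hχ⟩ := Twist.exists_tG Q hh
  have hconj : ∀ r, r < D.nroots → ∀ a, h * Q.sys.x r a * h⁻¹ =
      Q.sys.x r ((Twist.chT χ r : K) * a) := fun r hr a => by
    rw [← hχ]; exact Twist.tG_conj Q χ hr a
  have hstep : ∀ r, r < D.nroots → (Twist.chT χ r : K) = 1 →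
      (Twist.chT χ (S.T.rho r) : K) = 1 := by
    intro r hr hr1
    have h1 := congrArg S.E.σ (hconj r hr 1)
    rw [hr1, one_mul, map_mul, map_mul, map_inv, show S.E.σ h = h from hhG, S.σ_x hr,
      hconj _ (S.rho_lt hr), map_one, mul_one] at h1
    have h2 := Twist.xG_inj Q (S.rho_lt hr) h1
    have hne : (S.T.sg r : K) ≠ 0 := by
      have := (S.E.f_inv r hr 1 one_ne_zero).1
      rwa [S.f_eq r hr, map_one, mul_one] at this
    exact mul_right_cancel₀ hne (by rw [one_mul]; exact h2)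
  have hchi : ∀ r ∈ S.SS, (Twist.chT χ r : K) = 1 := by
    intro r
    induction r using Nat.strong_induction_on with
    | _ r ih =>
      intro hrS
      obtain ⟨⟨hr1, hr2⟩, -⟩ := S.mem_SS.1 hrS
      by_cases hmin : ∀ j < S.T.m, r ≤ S.T.rho^[j] r
      · set y := S.P r 1
        have hcy := hc y (S.P_mem_rat hr1 (map_one S.φ))
          (S.P_mem_XS hr1 (fun j _ => Finset.mem_coe.2 (S.iter_SS hrS j)) 1)
        have hy := S.P_split r (1 : K)
        set rest := ((List.range (S.T.orbSize r - 1)).map fun j =>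
          (⇑S.E.σ)^[j + 1] (Q.sys.x r 1)).prod
        have hrest := S.P_rest hr1 hr2 hmin (1 : K)
        obtain ⟨m1, hm1, em, hpres⟩ := PC.conj_U Q hr1 hr2 (Twist.chT χ r : K) hu
        have hrest' : h * rest * h⁻¹ ∈ XS Q.sys.x {q | q ∈ Q.sys.P ∧ r < q} :=
          conj_mem_XS (fun q hq a => by
            rw [hconj q (mem_posSet.1 (Q.sys.P_eq ▸ hq.1)).1]
            exact x_mem_XS hq _) hrest
        have e1 : Q.sys.x r (Twist.chT χ r : K) * (m1 * (u * (h * rest * h⁻¹) * u⁻¹)) =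
            Q.sys.x r 1 * rest := by
          have := hconj r hr1 1
          rw [mul_one] at this
          calc _ = u * Q.sys.x r (Twist.chT χ r : K) * u⁻¹ * (u * (h * rest * h⁻¹) * u⁻¹) := by
                rw [em]; group
            _ = c * (Q.sys.x r 1 * rest) * c⁻¹ := by rw [← this, e]; group
            _ = _ := by rw [← hy, hcy, mul_inv_cancel_right]
        exact (Q.sys.toUnip.head_unique Q.sys.toUnip.closed_P (PC.mem_P Q hr1 hr2)
          (mul_mem hm1 (hpres _ hrest')) hrest e1).1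
      · push Not at hmin
        obtain ⟨j, hj, hlt⟩ := hmin
        have h1 := ih _ hlt (S.iter_SS hrS j)
        have h2 : ∀ i, (Twist.chT χ (S.T.rho^[i] (S.T.rho^[j] r)) : K) = 1 := by
          intro i
          induction i with
          | zero => exact h1
          | succ i ihi =>
              rw [Function.iterate_succ_apply']
              exact hstep _ (S.iter_lt (S.iter_lt hr1 j) i) ihi
        have h3 := h2 (S.T.m - j)
        rwa [← Function.iterate_add_apply, Nat.sub_add_cancel hj.le,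
          (S.good.period r hr1).1] at h3
  have hh1 : h = 1 := by
    refine Twist.eq_one_of_simple Q hh fun i => ?_
    have h1 : (Twist.chT χ (D.simple i.val) : K) = 1 := by
      by_cases hi0 : i.val = S.T.i0
      · exact hchi _ (S.mem_SS.2 ⟨Q.K.simple_lt i.val i.isLt, by
          rw [← S.cf_eq _ (Q.K.simple_lt i.val i.isLt).1 _ S.good.base.2.2.2.1,
            Q.K.cf_simple i.val i.isLt _ S.good.base.2.2.2.1, if_pos hi0.symm]
          exact one_ne_zero⟩)
      obtain ⟨r, hr, r', hr', hrS, hr'S, hd⟩ := S.good.diff i.val i.isLt hi0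
      have hmul : Twist.chT χ r' = Twist.chT χ r * Twist.chT χ (D.simple i.val) := by
        simp only [Twist.chT, ← Finset.prod_mul_distrib]
        refine Finset.prod_congr rfl fun m _ => ?_
        rw [← zpow_add]
        congr 1
        rw [Q.K.cartan_lin m.val m.isLt r' hr', Q.K.cartan_lin m.val m.isLt r hr,
          Chevalley.list_sum_range_map, Chevalley.list_sum_range_map]
        have : ∀ j ∈ Finset.range D.rank, Q.K.cf r' j * D.cartan m.val (D.simple j) =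
            Q.K.cf r j * D.cartan m.val (D.simple j) +
              if j = i.val then D.cartan m.val (D.simple j) else 0 := fun j hj => by
          rw [Finset.mem_range] at hj
          rw [S.cf_eq r' hr' j hj, S.cf_eq r hr j hj, hd j hj]
          split_ifs <;> ring
        rw [Finset.sum_congr rfl this, Finset.sum_add_distrib, Finset.sum_ite_eq' (Finset.range D.rank),
          if_pos (Finset.mem_range.2 i.isLt)]
      have := congrArg (fun z : Kˣ => (z : K)) hmul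
      simp only [Units.val_mul] at this
      rw [hchi r' (S.mem_SS.2 hr'S), hchi r (S.mem_SS.2 hrS), one_mul] at this
      exact this.symm
    have h2 := hconj _ (Q.K.simple_lt i.val i.isLt).1 (1 : K)
    rw [h1, one_mul] at h2
    exact mul_inv_eq_iff_eq_mul.1 h2
  rw [e, hh1, mul_one]
  exact hu

theorem wordL_spec : (∀ a ∈ S.T.wordL, a < D.rank) ∧ nW Q S.T.wordL ∈ S.rat := by
  have key : ∀ L : List ℕ, (∀ j ∈ L, j < S.T.ws.length) →
      (∀ a ∈ (L.map fun j => S.T.ws.getD j []).flatten, a < D.rank) ∧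
        nW Q (L.map fun j => S.T.ws.getD j []).flatten ∈ S.rat := by
    intro L
    induction L with
    | nil => intro _; exact ⟨by simp, one_mem _⟩
    | cons j L ih =>
      intro hL
      obtain ⟨h1, h2⟩ := ih fun i hi => hL i (by simp [hi])
      have hmem : S.T.ws.getD j [] ∈ S.T.ws := by
        rw [List.getD_eq_getElem _ _ (hL j (by simp))]; exact List.getElem_mem _
      rw [List.map_cons, List.flatten_cons]
      refine ⟨fun a ha => ?_, ?_⟩
      · rcases List.mem_append.1 ha with h | h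
        · exact S.ws_lt hmem a h
        · exact h1 a h
      · rw [nW_append]; exact mul_mem (S.nW_mem_rat hmem) h2
  exact key _ S.good.ws_mem.2.2

/-- An element commuting with the rational elements of the radical is in the radical. -/
theorem commute_mem_SS {c : ↥(D.group K)} (hcG : c ∈ S.G)
    (hc : ∀ y ∈ S.rat, y ∈ XS Q.sys.x (↑S.SS : Set ℕ) → c * y = y * c) :
    c ∈ XS Q.sys.x (↑S.SS : Set ℕ) := by
  obtain ⟨hlt, hn⟩ := S.wordL_spec
  set n := nW Q S.T.wordL with hn'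
  obtain ⟨k, hk, ek⟩ := nW_rep (Q := Q) hlt
  have hpre : ∀ r ∈ S.SS, ∀ a, n⁻¹ * Q.sys.x r a * n⁻¹⁻¹ ∈ XS Q.sys.x (↑S.SS : Set ℕ) := by
    intro r hr a
    obtain ⟨r0, hr0, hS0, e0⟩ := S.good.wL_perm r (S.mem_SS.1 hr).1.1 (S.mem_SS.1 hr)
    obtain ⟨ε, hε, h⟩ := nW_conj (Q := Q) hlt hr0
    have h1 := h ((ε : K) * a)
    rw [e0, show (ε : K) * ((ε : K) * a) = a by rcases hε with rfl | rfl <;> simp] at h1
    rw [← h1, show n⁻¹ * (n * Q.sys.x r0 ((ε : K) * a) * n⁻¹) * n⁻¹⁻¹ =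
      Q.sys.x r0 ((ε : K) * a) by group]
    exact x_mem_XS (Finset.mem_coe.2 (S.mem_SS.2 hS0)) _
  have hc' : n * c * n⁻¹ ∈ Q.sys.U := by
    refine S.commute_mem_U (mul_mem (mul_mem hn.1 hcG) (inv_mem hn.1)) fun y hy hyS => ?_
    have h1 := hc (n⁻¹ * y * n) (mul_mem (mul_mem (inv_mem hn) hy) hn) (by
      have := conj_mem_XS hpre hyS
      rwa [inv_inv] at this)
    calc n * c * n⁻¹ * y = n * (c * (n⁻¹ * y * n)) * n⁻¹ := by group
      _ = _ := by rw [h1]; group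
  have hcU := S.commute_mem_U hcG hc
  have h2 := (supp_of_conj Q Q.sys.toUnip.closed_P (Weyl.wOf Q.X.M S.T.wordL) hk
    (g := c) (by rw [Q.sys.P_eq]; exact hcU) (by rw [← ek]; exact hc')).1
  refine XS_mono (fun r hr => ?_) h2
  obtain ⟨h3, h4, h5⟩ := Sys.mem_keep.1 (Finset.mem_inter.1 hr).2
  rw [← img_of_lt Q _ h3, img_wOf hlt h3] at h5
  exact Finset.mem_coe.2 (S.mem_SS.2 ⟨⟨h3, h4⟩, fun h0 => by
    have := (S.good.wL_flip r h3 h4).2 h0; omega⟩)

/-- The hypothesis of the embedded case. -/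
structure Emb (H : Subgroup ↥(D.group K)) : Prop where
  rat_le : S.rat ≤ H
  le_G : H ≤ S.G
  unip : ∀ u ∈ Q.sys.U, u ∈ H → u ∈ S.rat

theorem SS_le_U : XS Q.sys.x (↑S.SS : Set ℕ) ≤ Q.sys.U := XS_mono fun r hr =>
  Finset.mem_coe.2 (mem_posSet.2 (S.mem_SS.1 hr).1)

/-- Elements stabilising the highest root subgroup are rational. -/
theorem Emb.fixed_of_Pt {H : Subgroup ↥(D.group K)} (hE : S.Emb H) {g : ↥(D.group K)}
    (hg : g ∈ H) (hP : g ∈ S.Pt) : g ∈ S.rat := by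
  have hgG := hE.le_G hg
  set c := g⁻¹ * S.fr g with hc'
  have hcG : c ∈ S.G := mul_mem (inv_mem hgG) (S.fr_mem_G hgG)
  have hc := S.commute_mem_SS hcG fun y hy hyS => by
    have h1 := S.conj_SS hP hyS
    have h2 := hE.unip _ (S.SS_le_U h1) (mul_mem (mul_mem hg (hE.rat_le hy)) (inv_mem hg))
    have h3 : S.fr (g * y * g⁻¹) = g * y * g⁻¹ := h2.2
    rw [map_mul, map_mul, map_inv, show S.fr y = y from hy.2] at h3
    calc g⁻¹ * S.fr g * y = g⁻¹ * (S.fr g * y * (S.fr g)⁻¹) * S.fr g := by group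
      _ = _ := by rw [h3, hc']; group
  obtain ⟨u, hu, t, ht, w, n, hn, v, hv, -, hnw, huG, htG, hvG, e⟩ := S.decomp hgG
  have hq := S.conj_SS hP hc
  have e1 : S.fr g = (g * c * g⁻¹ * u) * t * n * v := by
    rw [hc']
    calc S.fr g = g * (g⁻¹ * S.fr g) * g⁻¹ * g := by group
      _ = _ := by rw [e]; group
  have e2 : S.fr g = S.fr u * S.fr t * n * S.fr v := by
    rw [e, map_mul, map_mul, map_mul, show S.fr n = n from hn.2]
  obtain ⟨-, hft, hfv⟩ := cell_unique hnw (Sub.frob_XS Q S.φ hu) (mul_mem (S.SS_le_U hq) hu)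
    (Sub.frob_H Q S.φ ht) ht (Sub.frob_XS Q S.φ hv) hv (e2.symm.trans e1)
  have htr : t ∈ S.rat := ⟨htG, hft⟩
  have hvr : v ∈ S.rat := ⟨hvG, hfv⟩
  have hrest : t * n * v ∈ S.rat := mul_mem (mul_mem htr hn) hvr
  have hur := hE.unip u hu (by
    rw [show u = g * (t * n * v)⁻¹ by rw [e]; group]
    exact mul_mem hg (inv_mem (hE.rat_le hrest)))
  rw [show g = u * (t * n * v) by rw [e]; group]
  exact mul_mem hur hrest

end Setup

end Cfsg.Agent.H51.Tw
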