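import Cfsg.Agent.H51.TwMax.Parabolic

/-!
A subgroup of the twisted group containing the rational points and no further unipotent elements
consists of rational points.
-/

set_option autoImplicit false

namespace Cfsg.Agent.H51.Tw

open Cfsg.Lie Cfsg.Agent.H37 Cfsg.Agent.H37.RootSys Cfsg.Agent.H37.NormalForm

variable {D : ChevalleyDatum} {K : Type*} [Field K] {Q : Chev.Data D K}

namespace Setup

variable (S : Setup Q)

theorem φ_surj (t : K) : ∃ t', S.φ t' = t := by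
  refine ⟨(⇑S.φ)^[S.T.m - 1] t, ?_⟩
  have := S.good.base.2.2.2.2.2
  rw [← Function.iterate_succ_apply' (⇑S.φ), show (S.T.m - 1).succ = S.T.m by omega]
  exact S.φ_pow t

theorem endo_Pt {η : ↥(D.group K) →* ↥(D.group K)}
    (hη : ∀ t, η (Q.sys.x (Dat.top D) t) = Q.sys.x (Dat.top D) (S.φ t)) {g : ↥(D.group K)}
    (hg : g ∈ S.Pt) : η g ∈ S.Pt := by
  refine S.mem_Pt (fun t => ?_) (fun t => ?_)
  · obtain ⟨t', rfl⟩ := S.φ_surj t
    obtain ⟨b, hb⟩ := (Subgroup.mem_normalizer_iff.1 hg _).1 ⟨t', rfl⟩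
    exact ⟨S.φ b, by rw [← hη, hb, map_mul, map_mul, map_inv, hη]⟩
  · obtain ⟨t', rfl⟩ := S.φ_surj t
    obtain ⟨b, hb⟩ := (Subgroup.mem_normalizer_iff.1 (inv_mem hg) _).1 ⟨t', rfl⟩
    rw [inv_inv] at hb
    exact ⟨S.φ b, by rw [← hη, hb, map_mul, map_mul, map_inv, hη]⟩

/-- A coset of the stabiliser stable under the endomorphisms has a rational element. -/
theorem exists_rat_coset {g : ↥(D.group K)} (hg : g ∈ S.G) {t : K} (ht : t ≠ 0)
    (hy : S.fr (g * Q.sys.x (Dat.top D) t * g⁻¹) = g * Q.sys.x (Dat.top D) t * g⁻¹) :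
    ∃ m ∈ S.rat, m⁻¹ * g ∈ S.Pt := by
  classical
  have hd : g⁻¹ * S.fr g ∈ S.Pt := by
    refine S.mem_Pt_of_conj ((map_ne_zero S.φ).2 ht) (b := t) ?_
    rw [map_mul, map_mul, map_inv, Sub.frob_x] at hy
    calc g⁻¹ * S.fr g * Q.sys.x (Dat.top D) (S.φ t) * (g⁻¹ * S.fr g)⁻¹
        = g⁻¹ * (S.fr g * Q.sys.x (Dat.top D) (S.φ t) * (S.fr g)⁻¹) * g := by group
      _ = _ := by rw [hy]; group
  obtain ⟨u, hu, h, hh, w, n, hn, v, hv, hwτ, hnw, -, -, -, e⟩ := S.decomp hg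
  have hwτ' : S.E.s.tau w⁻¹ = w⁻¹ := by rw [map_inv, hwτ]
  set A : Set ℕ := {r | r < D.nroots ∧ D.nroots / 2 ≤ r ∧
    img Q w⁻¹ r < D.nroots / 2 ∧ S.T.cf (img Q w⁻¹ r) S.T.i0 ≠ 0} with hA
  obtain ⟨a, ha, b, hb, hab⟩ := Q.sys.toUnip.exists_split (Q.sys.P_eq ▸ Q.sys.toUnip.closed_P)
    A {r | r ∈ posSet D ∧ r ∉ A} (fun r hr => (em (r ∈ A)).imp id fun h => ⟨hr, h⟩) hu
  have hb' : n⁻¹ * b * n ∈ S.Pt := by
    have := conj_mem_XS (K := S.Pt) (a := n⁻¹) (fun r hr a => by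
      obtain ⟨⟨hr1, hr2⟩, hr3⟩ := And.intro (mem_posSet.1 hr.1) hr.2
      obtain ⟨a', -, e'⟩ := conj_x (inv_over hnw) hr1 a
      rw [e']
      refine S.x_mem_Pt (img_lt Q _ hr1) ?_ a'
      by_contra hcon
      push Not at hcon
      exact hr3 ⟨hr1, hr2, hcon.1, hcon.2⟩) hb
    rwa [inv_inv] at this
  have hh' : n⁻¹ * h * n ∈ S.Pt := by
    refine S.H_le_Pt ?_
    obtain ⟨k, hk, ek⟩ := inv_over hnw
    rw [show n⁻¹ * h * n = n⁻¹ * h * n⁻¹⁻¹ by group, ek,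
      show k * Q.sys.rep w⁻¹ * h * (k * Q.sys.rep w⁻¹)⁻¹ =
        k * (Q.sys.rep w⁻¹ * h * (Q.sys.rep w⁻¹)⁻¹) * k⁻¹ by group]
    exact mul_mem (mul_mem hk (Q.sys.rep_conj_H _ hh)) (inv_mem hk)
  set p0 := n⁻¹ * b * n * (n⁻¹ * h * n) * v with hp0
  have hp0P : p0 ∈ S.Pt := mul_mem (mul_mem hb' hh') (S.U_le_Pt (Q.sys.Uw_le w hv))
  have eg : g = a * n * p0 := by rw [e, hab, hp0]; group
  have hfix : ∀ η : ↥(D.group K) →* ↥(D.group K),
      (∀ t, η (Q.sys.x (Dat.top D) t) = Q.sys.x (Dat.top D) (S.φ t)) → η n = n →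
      (∀ y ∈ XS Q.sys.x A, η y ∈ XS Q.sys.x A) → g⁻¹ * η g ∈ S.Pt → η a = a := by
    intro η hη hηn hηA hηg
    have hneg := conj_mem_XS (a := n⁻¹) (K := XS Q.sys.x
      {r | r < D.nroots ∧ r < D.nroots / 2 ∧ ¬ ∀ m < D.rank, m ∉ S.J → Q.K.cf r m = 0})
      (fun r hr t => by
        obtain ⟨hr1, hr2, hr3, hr4⟩ := hr
        obtain ⟨t', -, e'⟩ := conj_x (inv_over hnw) hr1 t
        rw [e']
        exact x_mem_XS (S := {r | r < D.nroots ∧ r < D.nroots / 2 ∧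
          ¬ ∀ m < D.rank, m ∉ S.J → Q.K.cf r m = 0}) ⟨img_lt Q _ hr1, hr3, fun h0 => hr4 (by
            rw [← S.cf_eq _ (img_lt Q _ hr1) _ S.good.base.2.2.2.1]
            exact h0 _ S.good.base.2.2.2.1 fun hJ => hJ rfl)⟩ t')
      (mul_mem (inv_mem ha) (hηA a ha))
    rw [inv_inv] at hneg
    have hP2 : n⁻¹ * (a⁻¹ * η a) * n ∈ S.Pt := by
      have : n⁻¹ * (a⁻¹ * η a) * n = p0 * (g⁻¹ * η g) * (η p0)⁻¹ := by
        rw [eg, map_mul, map_mul, hηn]; group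
      rw [this]
      exact mul_mem (mul_mem hp0P hηg) (inv_mem (S.endo_Pt hη hp0P))
    have h1 := Sub.negOut_inf_parabolic Q S.sup (S.Pt_le_parabolic hP2) hneg
    have h2 : a⁻¹ * η a = 1 := by
      rw [show a⁻¹ * η a = n * (n⁻¹ * (a⁻¹ * η a) * n) * n⁻¹ by group, h1]
      group
    exact (inv_mul_eq_one.1 h2).symm
  have hσa : S.E.σ a = a := by
    refine hfix S.E.σ (fun t => ?_) hn.1 (fun y hy => S.E.σ_XS (fun r hr => ?_) hy) ?_
    · rw [S.σ_x S.top_lt, S.good.base.2.1, S.good.sg_fix _ S.top_lt S.good.base.2.1,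
        Int.cast_one, one_mul]
    · obtain ⟨hr1, hr2, hr3, hr4⟩ := hr
      rw [S.rho_eq]
      refine ⟨hr1, S.rho_lt hr1, (S.rho_pos hr1).2 hr2, ?_, ?_⟩
      · rw [S.hom_rho hwτ' hr1]
        have := S.rho_pos (img_lt Q w⁻¹ hr1)
        omega
      · rw [S.hom_rho hwτ' hr1, S.good.rho_i0 _ (img_lt Q _ hr1)]
        exact hr4
    · rw [show S.E.σ g = g from hg, inv_mul_cancel]; exact one_mem _
  have hFa : S.fr a = a := hfix S.fr (fun t => Sub.frob_x Q S.φ _ t) hn.2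
    (fun y hy => Sub.frob_XS Q S.φ hy) hd
  refine ⟨a * n, mul_mem ⟨hσa, hFa⟩ hn, ?_⟩
  rwa [eg, inv_mul_cancel_left]

variable {S} {H : Subgroup ↥(D.group K)}

theorem Emb.mem_rat_of_conj (hE : S.Emb H) {h : ↥(D.group K)} (hh : h ∈ H)
    (hy : h * Q.sys.x (Dat.top D) 1 * h⁻¹ ∈ S.rat) : h ∈ S.rat := by
  obtain ⟨m, hm, hP⟩ := S.exists_rat_coset (hE.le_G hh) one_ne_zero hy.2
  have h1 := hE.fixed_of_Pt S (mul_mem (inv_mem (hE.rat_le hm)) hh) hP
  have h2 := mul_mem hm h1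
  rwa [mul_inv_cancel_left] at h2

variable (S)

/-- The fixed roots in the orbit of the highest one. -/
theorem reach_rep : ∀ f, ∀ r ∈ Dat.reach D S.T f,
    ∃ n ∈ S.rat, ∃ w, (∃ k ∈ Q.sys.H, n = k * Q.sys.rep w) ∧ img Q w (Dat.top D) = r
  | 0, r, hr => by
      rw [Dat.reach, List.mem_singleton] at hr
      exact ⟨1, one_mem _, 1, ⟨1, one_mem _, by rw [Q.sys.rep_one, mul_one]⟩, by
        rw [hr, img_of_lt Q _ S.top_lt, map_one]; rfl⟩
  | f + 1, r, hr => by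
      rw [Dat.reach, List.mem_dedup, List.mem_append, List.mem_flatMap] at hr
      rcases hr with hr | ⟨wd, hwd, hr⟩
      · exact reach_rep f r hr
      · obtain ⟨r0, hr0, rfl⟩ := List.mem_map.1 hr
        obtain ⟨n, hn, w, ⟨k, hk, rfl⟩, e⟩ := reach_rep f r0 hr0
        obtain ⟨k', hk', e'⟩ := nW_rep (Q := Q) (S.ws_lt hwd)
        set w' := Weyl.wOf Q.X.M wd
        obtain ⟨l, hl, el⟩ := Q.sys.rep_mul w' w
        refine ⟨nW Q wd * (k * Q.sys.rep w), mul_mem (S.nW_mem_rat hwd) hn, w' * w,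
          ⟨k' * (Q.sys.rep w' * k * (Q.sys.rep w')⁻¹) * l,
            mul_mem (mul_mem hk' (Q.sys.rep_conj_H _ hk)) hl, ?_⟩, ?_⟩
        · rw [e', mul_assoc _ l, ← el]; group
        · have hlt : r0 < D.nroots := e ▸ img_lt Q w S.top_lt
          rw [← img_wOf (Q := Q) (S.ws_lt hwd) hlt, ← e, img_of_lt Q _ S.top_lt, map_mul,
            Equiv.Perm.mul_apply, img_of_lt Q _ (img_lt Q w S.top_lt)]
          congr 3
          exact Fin.ext (img_of_lt Q w S.top_lt).symm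

theorem x_top_rat : Q.sys.x (Dat.top D) 1 ∈ S.rat := by
  have h := S.P_mem_rat S.top_lt (map_one S.φ)
  rwa [S.P_fixed_root S.good.base.2.1] at h

variable {S}

theorem Emb.mem_rat_of_cell (hE : S.Emb H) {h u : ↥(D.group K)} (hh : h ∈ H) (hu : u ∈ Q.sys.U)
    (huG : u ∈ S.G) {γ : ℕ} (hγ : γ < D.nroots) (hγf : S.T.rho γ = γ)
    (hne : γ ≠ D.neg (Dat.top D)) {a : K} (ha : a ≠ 0)
    (e : h * Q.sys.x (Dat.top D) 1 * h⁻¹ = u * Q.sys.x γ a * u⁻¹) : h ∈ S.rat := by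
  set z := Q.sys.x (Dat.top D) 1 with hz
  set y := h * z * h⁻¹ with hy
  have hzr := S.x_top_rat
  have hyH : y ∈ H := mul_mem (mul_mem hh (hE.rat_le hzr)) (inv_mem hh)
  by_cases hpos : D.nroots / 2 ≤ γ
  · refine hE.mem_rat_of_conj hh (hE.unip _ ?_ hyH)
    rw [show h * Q.sys.x (Dat.top D) 1 * h⁻¹ = u * Q.sys.x γ a * u⁻¹ from e]
    exact mul_mem (mul_mem hu (Q.sys.x_mem_U hγ hpos a)) (inv_mem hu)
  have hγh : γ < D.nroots / 2 := Nat.lt_of_not_le hpos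
  have hnt : γ ≠ Dat.top D := by have := S.good.base.1.1.2; omega
  have hzu : u * z = z * u := xG_comm_U Q S.top_succ hu 1
  have hcm := comm_word (Q := Q) S.top_lt hγ hnt hne (1 : K) a
  rcases S.good.gamma γ hγh hγf hne with h0 | ⟨c, -, hc, hsgn, hi, hj, hδ, hδf, hδγ, hδn, hδc⟩
  · rw [h0, List.map_nil, List.prod_nil, mul_one] at hcm
    have hcomm : y * z = z * y := by
      rw [e]
      calc u * Q.sys.x γ a * u⁻¹ * z = u * Q.sys.x γ a * u⁻¹ * z * u * u⁻¹ := by group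
        _ = u * (Q.sys.x γ a * z) * u⁻¹ := by rw [mul_assoc _ z u, ← hzu]; group
        _ = u * (z * Q.sys.x γ a) * u⁻¹ := by rw [hz, hcm]
        _ = _ := by rw [← mul_assoc u, hzu]; group
    have hyP : y ∈ S.Pt := S.mem_Pt_of_conj one_ne_zero (b := (1 : K)) (by
      rw [← hz, hcomm]; group)
    exact hE.mem_rat_of_conj hh (hE.fixed_of_Pt S hyH hyP)
  · set δ := c.1
    have hc1 : δ < D.nroots := (Q.K.commTerms_cf (c := c) (by rw [hc]; simp)).1.1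
    rw [hc, List.map_singleton, List.prod_singleton, hi, hj, pow_one, pow_one] at hcm
    set a' := (c.2.1 : K) * -1 * a with ha'
    have ha'0 : a' ≠ 0 := by
      rcases hsgn with h1 | h1 <;> simp [ha', h1, ha]
    set C := y⁻¹ * z⁻¹ * y * z with hC
    have eC : C = u * Q.sys.x δ a' * u⁻¹ := by
      have h1 : Q.sys.x δ a' = (Q.sys.x γ a)⁻¹ * z⁻¹ * (Q.sys.x γ a * z) := by
        rw [hz, hcm, show c.1 = δ from rfl]; group
      have h2 : z = u⁻¹ * z * u := by rw [mul_assoc, ← hzu, inv_mul_cancel_left]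
      rw [hC, e, h1]
      calc (u * Q.sys.x γ a * u⁻¹)⁻¹ * z⁻¹ * (u * Q.sys.x γ a * u⁻¹) * z
          = u * (Q.sys.x γ a)⁻¹ * (u⁻¹ * z * u)⁻¹ * Q.sys.x γ a * (u⁻¹ * z * u) * u⁻¹ := by group
        _ = _ := by rw [← h2]; group
    have hCU : C ∈ Q.sys.U := by
      rw [eC]; exact mul_mem (mul_mem hu (Q.sys.x_mem_U hc1 hδ a')) (inv_mem hu)
    have hCH : C ∈ H := by
      have := hE.rat_le hzr
      exact mul_mem (mul_mem (mul_mem (inv_mem hyH) (inv_mem this)) hyH) this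
    have hCr := hE.unip C hCU hCH
    obtain ⟨n, hn, w, hnw, hwδ⟩ := S.reach_rep S.T.fuel δ (S.good.reach_fix δ hc1 hδ hδf)
    obtain ⟨b, hb, eb⟩ := conj_x (inv_over hnw) hc1 a'
    rw [inv_inv, show img Q w⁻¹ δ = Dat.top D by rw [← hwδ]; exact img_inv S.top_lt] at eb
    have eC' : C = (u * n) * Q.sys.x (Dat.top D) b * (u * n)⁻¹ := by
      rw [eC, ← eb]; group
    obtain ⟨m, hm, hP⟩ := S.exists_rat_coset (mul_mem huG hn.1) (hb ha'0) (by
      rw [← eC']; exact hCr.2)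
    obtain ⟨b', hb'⟩ := (Subgroup.mem_normalizer_iff.1 hP (Q.sys.x (Dat.top D) b)).1 ⟨b, rfl⟩
    have eC2 : C = m * Q.sys.x (Dat.top D) b' * m⁻¹ := by rw [hb', eC']; group
    have hb'0 : b' ≠ 0 := by
      intro h0
      refine ne_zero_x (Q := Q) S.top_lt (hb ha'0) ((conj_eq_one_iff (a := m⁻¹ * (u * n))).1 ?_)
      rw [← hb', h0, Q.sys.x_zero' S.top_lt]
    have hyC : y * C = C * y := by
      have h1 := comm_word (Q := Q) hc1 hγ (Ne.symm hδγ) hδn a' a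
      rw [hδc, List.map_nil, List.prod_nil, mul_one] at h1
      rw [eC, e]
      calc u * Q.sys.x γ a * u⁻¹ * (u * Q.sys.x δ a' * u⁻¹)
          = u * (Q.sys.x γ a * Q.sys.x δ a') * u⁻¹ := by group
        _ = _ := by rw [h1]; group
    have hyP : m⁻¹ * y * m ∈ S.Pt := by
      refine S.mem_Pt_of_conj hb'0 (b := b') ?_
      calc m⁻¹ * y * m * Q.sys.x (Dat.top D) b' * (m⁻¹ * y * m)⁻¹
          = m⁻¹ * (y * (m * Q.sys.x (Dat.top D) b' * m⁻¹) * y⁻¹) * m := by group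
        _ = _ := by rw [← eC2, hyC, mul_inv_cancel_right, eC2]; group
    have h1 := hE.fixed_of_Pt S
      (mul_mem (mul_mem (inv_mem (hE.rat_le hm)) hyH) (hE.rat_le hm)) hyP
    have h2 := mul_mem (mul_mem hm h1) (inv_mem hm)
    rw [show m * (m⁻¹ * y * m) * m⁻¹ = y by group] at h2
    exact hE.mem_rat_of_conj hh h2

/-- No further unipotent elements, no further elements. -/
theorem Emb.le_rat (hE : S.Emb H) : H ≤ S.rat := by
  classical
  intro h hh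
  obtain ⟨u, hu, t, ht, w, n, -, v, hv, hwτ, hnw, huG, -, -, e⟩ := S.decomp (hE.le_G hh)
  obtain ⟨k, hk, hnw⟩ := hnw
  obtain ⟨a, ha, ea⟩ := conj_x (w := w) (n := t * n)
    ⟨t * k, mul_mem ht hk, by rw [hnw]; group⟩ S.top_lt (1 : K)
  set γ := img Q w (Dat.top D) with hγdef
  have hγ : γ < D.nroots := img_lt Q w S.top_lt
  have hγf : S.T.rho γ = γ := by
    rw [hγdef, ← S.hom_rho hwτ S.top_lt, S.good.base.2.1]
  have hy : h * Q.sys.x (Dat.top D) 1 * h⁻¹ = u * Q.sys.x γ a * u⁻¹ := by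
    have h1 := xG_comm_U Q S.top_succ (Q.sys.Uw_le w hv) (1 : K)
    rw [← ea, e]
    calc u * t * n * v * Q.sys.x (Dat.top D) 1 * (u * t * n * v)⁻¹
        = u * t * n * (v * Q.sys.x (Dat.top D) 1) * v⁻¹ * (u * t * n)⁻¹ := by group
      _ = _ := by rw [h1]; group
  by_cases hne : γ = D.neg (Dat.top D)
  swap
  · exact hE.mem_rat_of_cell hh hu huG hγ hγf hne (ha one_ne_zero) hy
  set p := D.simple S.T.i0 with hp
  obtain ⟨hp1, hp2⟩ := Q.K.simple_lt S.T.i0 S.good.base.2.2.2.1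
  have hpf : S.T.rho p = p := S.good.base.2.2.1
  set B : Finset ℕ := Q.sys.P.erase p with hB
  have hBcl : Q.sys.toUnip.Closed B := by
    refine ⟨Finset.erase_subset _ _, fun r hr s hs _ j hj => ?_⟩
    obtain ⟨-, hrP⟩ := Finset.mem_erase.1 hr
    obtain ⟨-, hsP⟩ := Finset.mem_erase.1 hs
    refine Finset.mem_erase.2 ⟨fun hjp => ?_, (Q.sys.T_pos hrP hsP hj).1⟩
    subst hjp
    obtain ⟨hr1, hr2⟩ := mem_posSet.1 (Q.sys.P_eq ▸ hrP)
    obtain ⟨hs1, hs2⟩ := mem_posSet.1 (Q.sys.P_eq ▸ hsP)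
    have hlt := (Q.sys.T_pos hrP hsP hj).2.1
    obtain ⟨-, x, z, hx, hz, ej⟩ := (hj : Combo Q.K r s p)
    have h1 : (1 : ℤ) ≤ S.T.ht D r := S.good.ht_pos r hr1 hr2
    have h2 : (1 : ℤ) ≤ S.T.ht D s := S.good.ht_pos s hs1 hs2
    have h3 : S.T.ht D p = x * S.T.ht D r + z * S.T.ht D s := by
      simp only [Dat.ht, ← List.sum_map_mul_left, ← List.sum_map_add]
      refine congrArg List.sum (List.map_congr_left fun m hm => ?_)
      rw [List.mem_range] at hm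
      rw [← S.cf_eq p hp1 m hm, ← S.cf_eq r hr1 m hm, ← S.cf_eq s hs1 m hm, ej m hm]
    have h4 : S.T.ht D p = 1 := by
      rw [Dat.ht, Chevalley.list_sum_range_map, Finset.sum_eq_single S.T.i0]
      · rw [← S.cf_eq p hp1 _ S.good.base.2.2.2.1, Q.K.cf_simple _ S.good.base.2.2.2.1 _
          S.good.base.2.2.2.1, if_pos rfl]
      · intro m hm hne
        rw [Finset.mem_range] at hm
        rw [← S.cf_eq p hp1 m hm, Q.K.cf_simple _ S.good.base.2.2.2.1 m hm, if_neg hne]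
      · simp [S.good.base.2.2.2.1]
    have : (1 : ℤ) ≤ x := by exact_mod_cast hx
    have : (1 : ℤ) ≤ z := by exact_mod_cast hz
    nlinarith
  obtain ⟨x₀, hx₀, b, hb, hub⟩ := Q.sys.toUnip.exists_split Q.sys.toUnip.closed_P
    ({p} : Set ℕ) (↑B : Set ℕ) (fun r hr => by
      by_cases h0 : r = p
      · exact Or.inl h0
      · exact Or.inr (Finset.mem_coe.2 (Finset.mem_erase.2 ⟨h0, hr⟩)))
    (show u ∈ XS Q.sys.x ↑Q.sys.P by rw [Q.sys.P_eq]; exact hu)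
  obtain ⟨s, rfl⟩ : ∃ s, x₀ = Q.sys.x p s := by
    clear hub
    induction hx₀ using Subgroup.closure_induction with
    | mem g hg =>
        obtain ⟨r, hr, s, rfl⟩ := hg
        exact ⟨s, by rw [Set.mem_singleton_iff.1 hr]⟩
    | one => exact ⟨0, (Q.sys.x_zero' hp1).symm⟩
    | mul g g' _ _ hg hg' =>
        obtain ⟨s, rfl⟩ := hg
        obtain ⟨s', rfl⟩ := hg'
        exact ⟨s + s', (Q.sys.x_add' p hp1 s s').symm⟩
    | inv g _ hg =>
        obtain ⟨s, rfl⟩ := hg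
        exact ⟨-s, (eq_inv_of_mul_eq_one_left (by
          rw [← Q.sys.x_add' p hp1, neg_add_cancel, Q.sys.x_zero' hp1])).symm⟩
  have hσb : S.E.σ b ∈ XS Q.sys.x (↑B : Set ℕ) := S.E.σ_XS (fun r hr => by
    obtain ⟨hrp, hrP⟩ := Finset.mem_erase.1 (Finset.mem_coe.1 hr)
    obtain ⟨hr1, hr2⟩ := mem_posSet.1 (Q.sys.P_eq ▸ hrP)
    refine ⟨hr1, Finset.mem_coe.2 (Finset.mem_erase.2 ⟨fun e => hrp ?_, ?_⟩)⟩
    · exact S.E.s.rh_inj hr1 hp1 (e.trans ((S.rho_eq p).trans hpf).symm)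
    · rw [S.rho_eq]; exact PC.mem_P Q (S.rho_lt hr1) ((S.rho_pos hr1).2 hr2)) hb
  have hs : S.φ s = s := by
    have h1 : Q.sys.x p (S.φ s) * S.E.σ b = Q.sys.x p s * b := by
      rw [← hub]
      conv_rhs => rw [← (show S.E.σ u = u from huG), hub, map_mul, S.σ_x hp1, hpf,
        S.good.sg_fix p hp1 hpf, Int.cast_one, one_mul]
    have h2 : Q.sys.x p (-s + S.φ s) ∈ XS Q.sys.x (↑B : Set ℕ) := by
      rw [Q.sys.x_add' p hp1, show Q.sys.x p (-s) = (Q.sys.x p s)⁻¹ from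
        eq_inv_of_mul_eq_one_left (by rw [← Q.sys.x_add' p hp1, neg_add_cancel, Q.sys.x_zero' hp1]),
        show (Q.sys.x p s)⁻¹ * Q.sys.x p (S.φ s) =
          (Q.sys.x p s)⁻¹ * (Q.sys.x p (S.φ s) * S.E.σ b) * (S.E.σ b)⁻¹ by group, h1,
        inv_mul_cancel_left]
      exact mul_mem hb (inv_mem hσb)
    have hpcl : Q.sys.toUnip.Closed ({p} : Finset ℕ) := by
      refine ⟨fun r hr => ?_, fun r hr s hs hne => ?_⟩
      · rw [Finset.mem_singleton] at hr; subst hr; exact PC.mem_P Q hp1 hp2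
      · rw [Finset.mem_singleton] at hr hs; exact absurd (hr.trans hs.symm) hne
    have h3 := XS_inter Q.sys.toUnip hpcl hBcl
      (x_mem_XS (Finset.mem_coe.2 (Finset.mem_singleton_self p)) _) h2
    rw [hB, show ({p} : Finset ℕ) ∩ Q.sys.P.erase p = ∅ by
      ext r; simp, Finset.coe_empty, XS_empty, Subgroup.mem_bot] at h3
    by_contra hne'
    exact ne_zero_x (Q := Q) hp1 (fun h0 => hne' (by linear_combination h0)) h3
  have hxr : Q.sys.x p s ∈ S.rat := by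
    have := S.P_mem_rat hp1 hs
    rwa [S.P_fixed_root hpf] at this
  obtain ⟨hw0, hwlt, -⟩ := S.good.ws_mem
  set n0 := nW Q [S.T.i0]
  have hn0 : n0 ∈ S.rat := S.nW_mem_rat hw0
  have hn0w := nW_rep (Q := Q) (S.ws_lt hw0)
  set w0 := Weyl.wOf Q.X.M [S.T.i0]
  have hrefl : ∀ r, r < D.nroots → img Q w0 r = D.reflectRoot S.T.i0 r := fun r hr => by
    rw [img_wOf (S.ws_lt hw0) hr]; rfl
  set m0 := n0 * (Q.sys.x p s)⁻¹
  have hm0 : m0 ∈ S.rat := mul_mem hn0 (inv_mem hxr)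
  have hbU : n0 * b * n0⁻¹ ∈ Q.sys.U := conj_mem_XS (fun r hr c => by
    obtain ⟨hrp, hrP⟩ := Finset.mem_erase.1 (Finset.mem_coe.1 hr)
    obtain ⟨hr1, hr2⟩ := mem_posSet.1 (Q.sys.P_eq ▸ hrP)
    obtain ⟨c', -, e'⟩ := conj_x hn0w hr1 c
    rw [e', hrefl r hr1, Q.K.w_reflect _ S.good.base.2.2.2.1 r hr1]
    exact Q.sys.x_mem_U (Q.K.w_lt _ S.good.base.2.2.2.1 r hr1).1
      (Q.K.w_pos _ S.good.base.2.2.2.1 r hr1 hr2 hrp) c') hb
  obtain ⟨a', ha', ea'⟩ := conj_x hn0w hγ a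
  have hbG : n0 * b * n0⁻¹ ∈ S.G := by
    rw [show b = (Q.sys.x p s)⁻¹ * u by rw [hub]; group]
    exact mul_mem (mul_mem hn0.1 (mul_mem (inv_mem hxr.1) huG)) (inv_mem hn0.1)
  have hfinal := hE.mem_rat_of_cell (h := m0 * h) (mul_mem (hE.rat_le hm0) hh) hbU hbG
    (γ := img Q w0 γ) (img_lt Q w0 hγ) (by
      rw [← S.hom_rho (S.word_tau hw0) hγ, hγf]) (by
      intro h0
      refine S.good.base.2.2.2.2.1 ?_
      rw [hrefl γ hγ, Q.K.w_reflect _ S.good.base.2.2.2.1 γ hγ, hne,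
        Q.K.w_neg S.good.base.2.2.2.1 S.top_lt] at h0
      rw [Q.K.w_reflect _ S.good.base.2.2.2.1 _ S.top_lt]
      have h1 := congrArg D.neg h0
      rwa [Q.K.neg_neg (Q.K.w_lt _ S.good.base.2.2.2.1 _ S.top_lt).1,
        Q.K.neg_neg S.top_lt] at h1)
    (ha' (ha one_ne_zero)) (by
      rw [← ea']
      calc m0 * h * Q.sys.x (Dat.top D) 1 * (m0 * h)⁻¹
          = m0 * (h * Q.sys.x (Dat.top D) 1 * h⁻¹) * m0⁻¹ := by group
        _ = _ := by rw [hy, hub]; simp only [m0, n0]; group)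
  have h2 := mul_mem (inv_mem hm0) hfinal
  rwa [inv_mul_cancel_left] at h2

end Setup

end Cfsg.Agent.H51.Tw
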